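import Groth.Agent.MultTori.K964.Cocyc
import Groth.Agent.Sga3B.BcNat

/-!
# Torsor classes and base change along a morphism with a section

For `f : S' ⟶ S`, `g : S ⟶ S'` with `g ≫ f = 𝟙`: the map `bcMap f` is injective, and every torsor under
`(G_{S'})_S` over `S` comes from a torsor under `G`.
-/

set_option autoImplicit false
universe u

open CategoryTheory CategoryTheory.Limits MonoidalCategory CartesianMonoidalCategory MonObj GrpObj AlgebraicGeometry

namespace K832.BcSec

open K964.Cocyc NonAbH1 Groth.Agent.Sga3B

variable {S S' : Scheme.{u}}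

section restrict

variable {G G' X X' X'' : Over S} [GrpObj G] [GrpObj G']

/-- restriction of an equivariant isomorphism -/
noncomputable def restrictE (φ : G' ⟶ G) [IsMonHom φ] {a : AlgGrp.Action G X} {a' : AlgGrp.Action G X'}
    (e : EquivIso a a') : EquivIso (a.restrict φ) (a'.restrict φ) where
  iso := e.iso
  comm := by
    rw [AlgGrp.Action.restrict_act, AlgGrp.Action.restrict_act, Category.assoc, e.comm, whisker_exchange_assoc]

/-- composition of equivariant isomorphisms -/
noncomputable def transE {a : AlgGrp.Action G X} {a' : AlgGrp.Action G X'} {a'' : AlgGrp.Action G X''}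
    (e : EquivIso a a') (e' : EquivIso a' a'') : EquivIso a a'' where
  iso := e.iso ≪≫ e'.iso
  comm := by
    rw [Iso.trans_hom, ← Category.assoc, e.comm, Category.assoc, e'.comm, MonoidalCategory.whiskerLeft_comp_assoc]

/-- inverse of an equivariant isomorphism -/
noncomputable def symmE {a : AlgGrp.Action G X} {a' : AlgGrp.Action G X'} (e : EquivIso a a') : EquivIso a' a where
  iso := e.iso.symm
  comm := by
    rw [Iso.symm_hom, Iso.comp_inv_eq, Category.assoc, e.comm, ← MonoidalCategory.whiskerLeft_comp_assoc,
      Iso.inv_hom_id, MonoidalCategory.whiskerLeft_id, Category.id_comp]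

/-- equality of actions as an equivariant isomorphism -/
noncomputable def eqE {a a' : AlgGrp.Action G X} (h : a.act = a'.act) : EquivIso a a' where
  iso := Iso.refl X
  comm := by
    rw [Iso.refl_hom, MonoidalCategory.whiskerLeft_id, Category.id_comp, Category.comp_id, h]

lemma isPseudoTorsorSch_restrict (φ : G' ⟶ G) [IsMonHom φ] [IsIso φ] {a : AlgGrp.Action G X}
    (h : IsPseudoTorsorSch a) : IsPseudoTorsorSch (a.restrict φ) := by
  have h1 : lift (a.restrict φ).act (snd G' X) = (φ ▷ X) ≫ lift a.act (snd G X) := by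
    rw [comp_lift, AlgGrp.Action.restrict_act, whiskerRight_snd]
  have : IsIso (lift a.act (snd G X)) := h
  change IsIso (lift (a.restrict φ).act (snd G' X))
  rw [h1]
  infer_instance

/-- restriction of a torsor along an isomorphism of groups -/
noncomputable def restrictT {K : Precoverage Scheme.{u}} (φ : G' ⟶ G) [IsMonHom φ] [IsIso φ] (P : TorsorSch G K) :
    TorsorSch G' K where
  X := P.X
  act := P.act.restrict φ
  isTorsor := ⟨isPseudoTorsorSch_restrict φ P.isTorsor.1, P.isTorsor.2⟩

end restrict

section ident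

variable {G X : Over S} [GrpObj G]

variable (X) in
/-- the comparison `X ×_S S ⟶ X` -/
noncomputable abbrev jj : Red.bc (𝟙 S) X ⟶ X := (Over.pullbackId (X := S)).hom.app X

instance isMonHom_jj : IsMonHom (jj G) := by
  have h : (BcIso.bcIdIso G).hom.hom.hom = jj G := BcNat.und_bcIdIso G
  rw [← h]
  infer_instance

/-- base change along the identity -/
noncomputable def idE (a : AlgGrp.Action G X) : EquivIso (a.bc (𝟙 S)) (a.restrict (jj G)) where
  iso := (Over.pullbackId (X := S)).app X
  comm := by
    change (Functor.LaxMonoidal.μ (Over.pullback (𝟙 S)) G X ≫ (Over.pullback (𝟙 S)).map a.act) ≫ jj X = _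
    rw [Category.assoc]
    have h1 : (Over.pullback (𝟙 S)).map a.act ≫ jj X = jj (G ⊗ X) ≫ a.act :=
      (Over.pullbackId (X := S)).hom.naturality a.act
    have h2 : Functor.LaxMonoidal.μ (Over.pullback (𝟙 S)) G X ≫ jj (G ⊗ X) = (jj G ⊗ₘ jj X) := by
      have h3 := NatTrans.IsMonoidal.tensor (τ := (Over.pullbackId (X := S)).hom) G X
      rw [h3]
      exact Category.comp_id _
    rw [h1, ← Category.assoc, h2, AlgGrp.Action.restrict_act, tensorHom_def', Category.assoc]
    rfl

end ident

section sec

variable {G X : Over S} [GrpObj G] (f : S' ⟶ S) (g : S ⟶ S') (h : g ≫ f = 𝟙 S)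

variable (G) in
/-- the comparison `(G_{S'})_S ⟶ G` -/
noncomputable def kk : Red.bc g (Red.bc f G) ⟶ G := (ActBC.bcCompIso g f G h).hom ≫ jj G

instance isIso_kk : IsIso (kk G f g h) := by unfold kk; infer_instance

instance isMonHom_kk : IsMonHom (kk G f g h) := by unfold kk; infer_instance

instance isMonHom_inv_kk : IsMonHom (inv (kk G f g h)) := by
  have : IsMonHom (asIso (kk G f g h)).hom := isMonHom_kk f g h
  have h1 : IsMonHom (asIso (kk G f g h)).inv := inferInstance
  rwa [asIso_inv] at h1

/-- base change along `f` and then along a section -/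
noncomputable def compE (a : AlgGrp.Action G X) : EquivIso ((a.bc f).bc g) (a.restrict (kk G f g h)) :=
  transE (ActBC.equivIsoBcComp g f h a) (transE (restrictE _ (idE a)) (eqE (by
    rw [AlgGrp.Action.restrict_act, AlgGrp.Action.restrict_act, AlgGrp.Action.restrict_act, kk, comp_whiskerRight,
      Category.assoc])))

variable {K : Precoverage Scheme.{u}} [K.IsStableUnderBaseChange]

include h in
/-- **Base change along a morphism with a section is injective** on torsor classes. -/
theorem bcMap_injective : Function.Injective (H1Sch.bcMap f G K) := by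
  intro c c' hc
  obtain ⟨P, rfl⟩ := exists_cl c
  obtain ⟨Q, rfl⟩ := exists_cl c'
  have h1 : (P.bc f).cl = (Q.bc f).cl := hc
  rw [cl_eq_iff] at h1 ⊢
  obtain ⟨e⟩ := h1
  have e1 : EquivIso ((P.act.bc f).bc g) ((Q.act.bc f).bc g) := EquivIso.bc g e
  have e2 : EquivIso (P.act.restrict (kk G f g h)) (Q.act.restrict (kk G f g h)) :=
    transE (symmE (compE f g h P.act)) (transE e1 (compE f g h Q.act))
  have e3 := restrictE (inv (kk G f g h)) e2
  have h4 : ∀ {X : Over S} (a : AlgGrp.Action G X),
      ((a.restrict (kk G f g h)).restrict (inv (kk G f g h))).act = a.act := by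
    intro X a
    rw [AlgGrp.Action.restrict_act, AlgGrp.Action.restrict_act, ← comp_whiskerRight_assoc, IsIso.inv_hom_id,
      id_whiskerRight, Category.id_comp]
  exact ⟨transE (eqE (h4 P.act).symm) (transE e3 (eqE (h4 Q.act)))⟩

include h in
/-- Torsors under the twice base-changed group come from torsors under `G`. -/
theorem exists_bc_bc (Q : TorsorSch (Red.bc g (Red.bc f G)) K) :
    ∃ P : TorsorSch G K, H1Sch.bcMap g (Red.bc f G) K (H1Sch.bcMap f G K P.cl) = Q.cl := by
  refine ⟨restrictT (inv (kk G f g h)) Q, ?_⟩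
  change (((restrictT (inv (kk G f g h)) Q).bc f).bc g).cl = Q.cl
  rw [cl_eq_iff]
  refine ⟨transE (compE f g h _) (eqE ?_)⟩
  change (kk G f g h ▷ Q.X) ≫ (inv (kk G f g h) ▷ Q.X) ≫ Q.act.act = Q.act.act
  rw [← comp_whiskerRight_assoc, IsIso.hom_inv_id, id_whiskerRight, Category.id_comp]

end sec

end K832.BcSec
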