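import Groth.Agent.MultTori.K832.PolyH90
import Mathlib.AlgebraicGeometry.FunctionField

/-!
# The generic point of an open subscheme of affine space
-/

set_option autoImplicit false
universe u

open MvPolynomial AlgebraicGeometry CategoryTheory

namespace K832.GenPt

open K832.PolyH90 K964.BcPt

variable {A : Type u} [CommRing A] [IsDomain A] {σ : Type u} (U : (𝔸(σ; Spec (CommRingCat.of A))).Opens)
  [IsIntegral (U : Scheme.{u})]

/-- the map from the spectrum of the fraction field -/
theorem exists_g : ∃ g : Spec (CommRingCat.of (FractionRing (MvPolynomial σ A))) ⟶ (U : Scheme.{u}),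
    g ≫ jU U = tb (MvPolynomial σ A) (FractionRing (MvPolynomial σ A)) ∧
    g (IsLocalRing.closedPoint (FractionRing (MvPolynomial σ A))) = genericPoint (U : Scheme.{u}) := by
  let R := MvPolynomial σ A
  let K := FractionRing R
  have hirr : IrreducibleSpace (Spec (CommRingCat.of R)) := inferInstance
  have hgen : jU U (genericPoint (U : Scheme.{u})) = (⊥ : PrimeSpectrum R) :=
    (genericPoint_eq_of_isOpenImmersion (jU U)).trans (genericPoint_eq_bot_of_affine (CommRingCat.of R))
  have hK : ∀ x : PrimeSpectrum K, PrimeSpectrum.comap (algebraMap R K) x = ⊥ := by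
    intro x
    have hx : x = ⊥ := Subsingleton.elim _ _
    subst hx
    ext r
    change algebraMap R K r ∈ (⊥ : Ideal K) ↔ r ∈ (⊥ : Ideal R)
    rw [Ideal.mem_bot, Ideal.mem_bot]
    exact map_eq_zero_iff _ (IsFractionRing.injective R K)
  have hrange : Set.range (tb R K) ⊆ Set.range (jU U) := by
    rintro _ ⟨x, rfl⟩
    exact ⟨genericPoint (U : Scheme.{u}), hgen.trans (hK x).symm⟩
  refine ⟨IsOpenImmersion.lift (jU U) (tb R K) hrange, IsOpenImmersion.lift_fac _ _ _, ?_⟩
  apply (jU U).isOpenEmbedding.injective
  rw [hgen]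
  have h1 := congr($(IsOpenImmersion.lift_fac (jU U) (tb R K) hrange) (IsLocalRing.closedPoint K))
  exact h1.trans (hK _)

end K832.GenPt
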