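import Groth.Agent.MultTori.K832.RelFam
import Groth.Agent.MultTori.K964.FracB

/-!
# Relative families which are generically coboundaries

`exists_point_rel`: `R` an `A`-algebra with `R ⊗ B` a factorial domain with trivial `H¹` of subgroups of `G` in units,
`A'` a flat `R`-algebra covering the open subscheme `⋃ D (f i)`; a family which becomes a coboundary over the fraction
field of `R` is a coboundary.
-/

set_option autoImplicit false
universe u

open CategoryTheory CategoryTheory.Limits MonoidalCategory CartesianMonoidalCategory AlgebraicGeometry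
open TensorProduct

namespace K832.RelFam

open K965.Gal K964.UC K964.CharExt K964.AffPt K964.AffYon K964.Pt K964.TorsY K964.Cocyc K964.ExtE K964.Desc
  K964.BcPt K964.DictBc K964.DivSec K832.UfdGlue
open K965.Pts (sp mp)
open scoped MonObj GrpObj


attribute [local instance] actBc commBc

section main

variable {A B : Type u} [CommRing A] [CommRing B] [Algebra A B] {G : Type} [Group G]
    [MulSemiringAction G B] [SMulCommClass G A B]
    {N : Over (Spec (CommRingCat.of A))} [GrpObj N] {Λ : Type} [AddCommGroup Λ] [DistribMulAction G Λ]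
    (D : K965.Dict A B G N Λ) {R A' : Type u} [CommRing R] [Algebra A R] [CommRing A'] [Algebra R A'] [Algebra A A']
    [IsScalarTower A R A'] (c : RFam N R A') (K : Type u) [Field K] [Algebra R K] [Algebra A K] [IsScalarTower A R K]

/-- the character modified to take values in `A' ⊗ B` -/
theorem exists_char [Module.FaithfullyFlat A B] [Module.Finite A B] [IsDomain R] [Module.Flat R A']
    [Nontrivial A'] [IsFractionRing R K] [IsDomain (R ⊗[A] B)] [UniqueFactorizationMonoid (R ⊗[A] B)]
    (h90 : H90P (R ⊗[A] B) G) {I : Type} [Finite I] (f : I → R) (hf0 : ∀ i, f i ≠ 0)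
    (hspan : Ideal.span (Set.range fun i => algebraMap R A' (f i)) = ⊤)
    (hff : ∀ i, Module.FaithfullyFlat (Localization.Away (f i)) (Localization.Away (f i) ⊗[R] A'))
    (hκ : Function.Injective (mB B ((Algebra.TensorProduct.includeRight : A' →ₐ[R] K ⊗[R] A').restrictScalars A)))
    (n : sp (algebraMap A (K ⊗[R] A')) ⟶ N)
    (hn : c.c ((K ⊗[R] A') ⊗[K] (K ⊗[R] A')) ((t1 R K (K ⊗[R] A')).comp Algebra.TensorProduct.includeRight)
      ((t2 R K (K ⊗[R] A')).comp Algebra.TensorProduct.includeRight) =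
        (ap (t2 A K (K ⊗[R] A')) ≫ n) / (ap (t1 A K (K ⊗[R] A')) ≫ n)) :
    ∃ (t : Λ →+ Additive (K ⊗[A] B)ˣ) (χ : Λ → Additive (A' ⊗[A] B)ˣ),
      (∀ (g : G) (l : Λ), t (g • l) = ua A B K g (t l)) ∧
      ∀ l, mB B ((Algebra.TensorProduct.includeRight : A' →ₐ[R] K ⊗[R] A').restrictScalars A) (vl (χ l)) =
        vl (D.ch (K ⊗[R] A') n l) * mB B (IsScalarTower.toAlgHom A K (K ⊗[R] A')) (vl (t l)) := by
  let S := R ⊗[A] B
  let L := K ⊗[A] B
  let K' := K ⊗[R] A'
  let C := A' ⊗[A] B
  let C' := K' ⊗[A] B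
  let _ : Algebra S C := algSC A B R A'
  have hflat : Module.Flat S C := flat_SC A B R A'
  let inc : A' →ₐ[R] K' := Algebra.TensorProduct.includeRight
  let κ : C →+* C' := (mB B (inc.restrictScalars A)).toRingHom
  let mu : L →+* C' := (mB B (IsScalarTower.toAlgHom A K K')).toRingHom
  let j : S →+* L := (mB B (IsScalarTower.toAlgHom A R K)).toRingHom
  have hRK : Function.Injective (algebraMap R K) := IsFractionRing.injective R K
  have hj : Function.Injective j :=
    Module.Flat.rTensor_preserves_injective_linearMap (M := B) (IsScalarTower.toAlgHom A R K).toLinearMap hRK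
  have hinc : Function.Injective inc := Algebra.TensorProduct.includeRight_injective hRK
  have hnt : Nontrivial K' := hinc.nontrivial
  have hffK : Module.FaithfullyFlat K K' := inferInstance
  have hmu : ∀ x, mu (j x) = κ (algebraMap S C x) := by
    intro x
    change mB B (IsScalarTower.toAlgHom A K K') (mB B (IsScalarTower.toAlgHom A R K) x) =
      mB B (inc.restrictScalars A) (mB B (IsScalarTower.toAlgHom A R A') x)
    rw [mB_comp, mB_comp]
    congr 2
    ext r
    change (algebraMap R K r) ⊗ₜ[R] (1 : A') = (1 : K) ⊗ₜ[R] (algebraMap R A' r)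
    rw [Algebra.algebraMap_eq_smul_one, Algebra.algebraMap_eq_smul_one, TensorProduct.smul_tmul]
  have hfs : FaithfulSMul R S := by
    have : Module.FaithfullyFlat R S := inferInstance
    infer_instance
  have hu : ∀ b : S, b ≠ 0 → IsUnit (j b) := by
    intro b hb
    have h1 := K964.FracB.isUnit_includeRight (A := R) (B := S) K b hb
    have h2 := h1.map (kap A B R K).symm
    have h3 : (kap A B R K).symm ((Algebra.TensorProduct.includeRight : S →ₐ[R] K ⊗[R] S) b) = j b :=
      kap_symm_one_tmul b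
    rwa [h3] at h2
  have hfrac : ∀ z : Lˣ, ∃ b b' : S, b ≠ 0 ∧ b' ≠ 0 ∧ (z : L) * j b' = j b := by
    intro z
    obtain ⟨b, b', hb, hb', h⟩ := K964.FracB.exists_fractions (A := R) (B := S) K
      (Units.mapEquiv (kap A B R K).toMulEquiv z)
    refine ⟨b, b', hb, hb', ?_⟩
    have h1 := congrArg (kap A B R K).symm h
    rw [map_mul] at h1
    have h3 : ∀ b : S, (kap A B R K).symm ((Algebra.TensorProduct.includeRight : S →ₐ[R] K ⊗[R] S) b) = j b :=
      fun b => kap_symm_one_tmul b
    rw [h3, h3] at h1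
    rw [← h1]
    congr 1
    exact ((kap A B R K).symm_apply_apply (z : L)).symm
  let σ : G → L →+* L := fun g => (act A B K g).toRingHom
  let σ' : G → C' →+* C' := fun g => (act A B K' g).toRingHom
  let τ : G → C →+* C := fun g => (act A B A' g).toRingHom
  have hσ : ∀ (g : G) (b : S), σ g (j b) = j (g • b) := fun g b => (map_act (IsScalarTower.toAlgHom A R K) g b).symm
  have hσ' : ∀ (g : G) (l : L), σ' g (mu l) = mu (σ g l) :=
    fun g l => (map_act (IsScalarTower.toAlgHom A K K') g l).symm
  have hτ : ∀ (g : G) (x : C), κ (τ g x) = σ' g (κ x) := fun g x => map_act (inc.restrictScalars A) g x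
  obtain ⟨F⟩ := exists_fs j σ h90 hj hfrac hu hσ
  have halg : ∀ s : S, algebraMap S C s = mB B (IsScalarTower.toAlgHom A R A') s := fun s => rfl
  have h0 : ∀ i, algebraMap R S (f i) ≠ 0 := fun i => by
    rw [Ne, FaithfulSMul.algebraMap_eq_zero_iff]
    exact hf0 i
  obtain ⟨t, ht, hd⟩ := exists_glue F κ mu hj hu hκ hmu τ σ' hτ hσ' hσ (D.ch K' n)
    (fun g l => addUnits_ext (D.ch_smul K' n g l)) (fun i => (f i) ⊗ₜ[A] (1 : B))
    (fun g i => by rw [smul_eq, act_tmul, smul_one])
    (by
      have h1 : (fun i => algebraMap S C ((f i) ⊗ₜ[A] (1 : B))) =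
          fun i => (Algebra.TensorProduct.includeLeft : A' →ₐ[A] C) (algebraMap R A' (f i)) := by
        funext i
        rw [halg, Algebra.TensorProduct.map_tmul]
        rfl
      rw [h1]
      have h2 : (Set.range fun i => (Algebra.TensorProduct.includeLeft : A' →ₐ[A] C) (algebraMap R A' (f i))) =
          (Algebra.TensorProduct.includeLeft : A' →ₐ[A] C) '' (Set.range fun i => algebraMap R A' (f i)) := by
        rw [← Set.range_comp]
        rfl
      rw [h2, ← Ideal.map_span, hspan, Ideal.map_top])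
    (fun q i h => not_isUnit_of_ff (f i) (hff i) (F.γ q) (prime_γ F q) h)
    (fun l i => by
      let R₁ := Localization.Away (f i)
      have hfK : algebraMap R K (f i) ≠ 0 := fun h => hf0 i (hRK (by rw [h, map_zero]))
      let _ : Algebra R₁ K := (IsLocalization.Away.lift (f i) (g := algebraMap R K) hfK.isUnit : R₁ →+* K).toAlgebra
      have : IsScalarTower R R₁ K := IsScalarTower.of_algebraMap_eq fun r =>
        (IsLocalization.Away.lift_eq (f i) (g := algebraMap R K) hfK.isUnit r).symm
      have : IsScalarTower A R₁ K := IsScalarTower.of_algebraMap_eq fun a => by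
        rw [IsScalarTower.algebraMap_apply A R R₁, ← IsScalarTower.algebraMap_apply R R₁ K,
          ← IsScalarTower.algebraMap_apply A R K]
      exact exists_local D c K R₁ (f i) (hff i) (pic_local (f i) (h0 i)) hκ hfK n hn l)
  choose χ hχ using hd
  exact ⟨t, χ, ht, hχ⟩

include D in
/-- **A family which is generically a coboundary is a coboundary.** -/
theorem exists_point_rel [Module.FaithfullyFlat A B] [Module.Finite A B] [IsDomain R] [Module.Flat R A']
    [Nontrivial A'] [IsFractionRing R K] [IsDomain (R ⊗[A] B)] [UniqueFactorizationMonoid (R ⊗[A] B)]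
    (h90 : H90P (R ⊗[A] B) G) {I : Type} [Finite I] (f : I → R) (hf0 : ∀ i, f i ≠ 0)
    (hspan : Ideal.span (Set.range fun i => algebraMap R A' (f i)) = ⊤)
    (hff : ∀ i, Module.FaithfullyFlat (Localization.Away (f i)) (Localization.Away (f i) ⊗[R] A'))
    (n : sp (algebraMap A (K ⊗[R] A')) ⟶ N)
    (hn : c.c ((K ⊗[R] A') ⊗[K] (K ⊗[R] A')) ((t1 R K (K ⊗[R] A')).comp Algebra.TensorProduct.includeRight)
      ((t2 R K (K ⊗[R] A')).comp Algebra.TensorProduct.includeRight) =
        (ap (t2 A K (K ⊗[R] A')) ≫ n) / (ap (t1 A K (K ⊗[R] A')) ≫ n)) :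
    ∃ n' : sp (algebraMap A A') ⟶ N, ∀ (T : Type u) [CommRing T] [Algebra A T] [Algebra R T] [IsScalarTower A R T]
      (φ ψ : A' →ₐ[R] T), c.c T φ ψ = (ap (ψ.restrictScalars A) ≫ n') / (ap (φ.restrictScalars A) ≫ n') := by
  let K' := K ⊗[R] A'
  let inc : A' →ₐ[R] K' := Algebra.TensorProduct.includeRight
  have hRK : Function.Injective (algebraMap R K) := IsFractionRing.injective R K
  have hinc : Function.Injective inc := Algebra.TensorProduct.includeRight_injective hRK
  have hκ : Function.Injective (mB B (inc.restrictScalars A)) :=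
    Module.Flat.rTensor_preserves_injective_linearMap (M := B) (inc.restrictScalars A).toLinearMap hinc
  obtain ⟨t, χ₀, ht, hχ⟩ := exists_char D c K h90 f hf0 hspan hff hκ n hn
  have hinj : ∀ x y : Additive (A' ⊗[A] B)ˣ, mB B (inc.restrictScalars A) (vl x) = mB B (inc.restrictScalars A) (vl y) →
      x = y := fun x y h => addUnits_ext (hκ h)
  let χ : Λ →+ Additive (A' ⊗[A] B)ˣ :=
    { toFun := χ₀
      map_zero' := hinj _ _ (by
        rw [hχ, map_zero, map_zero, vl_zero, vl_zero, vl_zero, map_one, map_one, mul_one])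
      map_add' := fun x y => hinj _ _ (by
        rw [vl_add, map_mul, hχ, hχ, hχ, map_add, map_add, vl_add, vl_add, map_mul]
        ring) }
  have hχ' : ∀ l, mB B (inc.restrictScalars A) (vl (χ l)) =
        vl (D.ch (K ⊗[R] A') n l) * mB B (IsScalarTower.toAlgHom A K (K ⊗[R] A')) (vl (t l)) := hχ
  obtain ⟨n', hn'⟩ := D.ch_surj A' χ (by
    intro g m
    apply hκ
    change mB B (inc.restrictScalars A) (vl (χ (g • m))) = mB B (inc.restrictScalars A) (act A B A' g (vl (χ m)))
    rw [hχ', map_act, hχ', map_mul, ht, vl_ua, map_act]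
    congr 1
    exact D.ch_smul K' n g m)
  refine ⟨n', ?_⟩
  -- the universal case
  let T₀ := A' ⊗[R] A'
  let T₁ := K ⊗[R] T₀
  let jj : T₀ →ₐ[R] T₁ := Algebra.TensorProduct.includeRight
  have hjj : Function.Injective jj := Algebra.TensorProduct.includeRight_injective hRK
  have hJ : Function.Injective (mB B (jj.restrictScalars A)) :=
    Module.Flat.rTensor_preserves_injective_linearMap (M := B) (jj.restrictScalars A).toLinearMap hjj
  let θa : K' →ₐ[K] T₁ := Algebra.TensorProduct.map (AlgHom.id K K) (i1 (A := R) A')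
  let θb : K' →ₐ[K] T₁ := Algebra.TensorProduct.map (AlgHom.id K K) (i2 (A := R) A')
  let Θ : K' ⊗[K] K' →ₐ[K] T₁ := Algebra.TensorProduct.lift θa θb (fun _ _ => Commute.all _ _)
  have hΘ1 : (Θ.restrictScalars R).comp ((t1 R K K').comp inc) = jj.comp (i1 (A := R) A') := by
    ext a
    change Θ (((1 : K) ⊗ₜ[R] a) ⊗ₜ[K] (1 : K')) = (1 : K) ⊗ₜ[R] (a ⊗ₜ[R] (1 : A'))
    rw [Algebra.TensorProduct.lift_tmul, map_one, mul_one, Algebra.TensorProduct.map_tmul, map_one]
    rfl
  have hΘ2 : (Θ.restrictScalars R).comp ((t2 R K K').comp inc) = jj.comp (i2 (A := R) A') := by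
    ext a
    change Θ ((1 : K') ⊗ₜ[K] ((1 : K) ⊗ₜ[R] a)) = (1 : K) ⊗ₜ[R] ((1 : A') ⊗ₜ[R] a)
    rw [Algebra.TensorProduct.lift_tmul, map_one, one_mul, Algebra.TensorProduct.map_tmul, map_one]
    rfl
  have hΘ3 : (Θ.restrictScalars A).comp (t1 A K K') = θa.restrictScalars A := by
    refine AlgHom.ext fun x => ?_
    change Θ (x ⊗ₜ[K] (1 : K')) = θa x
    rw [Algebra.TensorProduct.lift_tmul, map_one, mul_one]
  have hΘ4 : (Θ.restrictScalars A).comp (t2 A K K') = θb.restrictScalars A := by
    refine AlgHom.ext fun x => ?_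
    change Θ ((1 : K') ⊗ₜ[K] x) = θb x
    rw [Algebra.TensorProduct.lift_tmul, map_one, one_mul]
  have h1 := congrArg (ap (Θ.restrictScalars A) ≫ ·) hn
  beta_reduce at h1
  have h2 := c.nat (K' ⊗[K] K') T₁ (Θ.restrictScalars R) ((t1 R K K').comp inc) ((t2 R K K').comp inc)
  have h3 := c.nat T₀ T₁ jj (i1 (A := R) A') (i2 (A := R) A')
  rw [hΘ1, hΘ2, ← h3] at h2
  have h4 : ap (jj.restrictScalars A) ≫ c.c T₀ (i1 (A := R) A') (i2 (A := R) A') =
      (ap (θb.restrictScalars A) ≫ n) / (ap (θa.restrictScalars A) ≫ n) := by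
    rw [← hΘ3, ← hΘ4, ap_comp, ap_comp, Category.assoc, Category.assoc, ← GrpObj.comp_div]
    exact h2.symm.trans h1
  have huniv : c.c T₀ (i1 (A := R) A') (i2 (A := R) A') =
      (ap ((i2 (A := R) A').restrictScalars A) ≫ n') / (ap ((i1 (A := R) A').restrictScalars A) ≫ n') := by
    apply D.ch_inj
    ext1 l
    rw [ch_div, eq_sub_iff_add_eq]
    apply addUnits_ext
    apply hJ
    rw [vl_add, map_mul, ch_nat', ch_nat', ← ch_nat', h4, ch_div, hn']
    have e1 : mB B (jj.restrictScalars A) (mB B ((i1 (A := R) A').restrictScalars A) (vl (χ l))) =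
        mB B (θa.restrictScalars A) (mB B (inc.restrictScalars A) (vl (χ l))) := by
      rw [mB_comp, mB_comp]
      congr 2
    have e2 : mB B (jj.restrictScalars A) (mB B ((i2 (A := R) A').restrictScalars A) (vl (χ l))) =
        mB B (θb.restrictScalars A) (mB B (inc.restrictScalars A) (vl (χ l))) := by
      rw [mB_comp, mB_comp]
      congr 2
    have e3 : mB B (θa.restrictScalars A) (mB B (IsScalarTower.toAlgHom A K K') (vl (t l))) =
        mB B (θb.restrictScalars A) (mB B (IsScalarTower.toAlgHom A K K') (vl (t l))) := by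
      rw [mB_comp, mB_comp]
      congr 2
    rw [e1, e2, hχ', map_mul, map_mul, e3]
    have e4 : vl (D.ch T₁ (ap (θb.restrictScalars A) ≫ n) l - D.ch T₁ (ap (θa.restrictScalars A) ≫ n) l) *
        mB B (θa.restrictScalars A) (vl (D.ch K' n l)) = mB B (θb.restrictScalars A) (vl (D.ch K' n l)) := by
      rw [← ch_nat', ← ch_nat', ← vl_add, sub_add_cancel]
    rw [← mul_assoc, e4]
  intro T _ _ _ _ φ ψ
  let θ : A' ⊗[R] A' →ₐ[R] T := Algebra.TensorProduct.lift φ ψ (fun _ _ => Commute.all _ _)
  have e1 : θ.comp (i1 (A := R) A') = φ := by ext x; simp [θ]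
  have e2 : θ.comp (i2 (A := R) A') = ψ := by ext x; simp [θ]
  have e3 : (θ.restrictScalars A).comp ((i1 (A := R) A').restrictScalars A) = φ.restrictScalars A := by rw [← e1]; rfl
  have e4 : (θ.restrictScalars A).comp ((i2 (A := R) A').restrictScalars A) = ψ.restrictScalars A := by rw [← e2]; rfl
  rw [← e3, ← e4, ap_comp, ap_comp, Category.assoc, Category.assoc, ← GrpObj.comp_div, ← huniv, c.nat, e1, e2]

end main

end K832.RelFam
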