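import Groth.Agent.MultTori.K832.GeoPt
import Groth.Agent.MultTori.K832.RelMain

/-!
# Torsors over open subschemes of affine schemes which are generically isomorphic
-/

set_option autoImplicit false
universe u

open CategoryTheory CategoryTheory.Limits MonoidalCategory CartesianMonoidalCategory AlgebraicGeometry
open TensorProduct

namespace K832.GeoMain

open K964.UC K964.CharExt K964.AffPt K964.Pt K964.Cocyc K964.Desc K964.BcPt K964.BcCl K964.DictBc K964.DivSec
  K832.RelFam K832.GeoPt NonAbH1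
open K965.Pts (sp mp)
open scoped MonObj GrpObj

/-- A common affine cover with points of two torsors. -/
theorem exists_common_cover {X : Scheme.{u}} [CompactSpace X] {G : Over X} [GrpObj G]
    (P Q : TorsorSch G Scheme.fppfPrecoverage) :
    ∃ (A' : Type u) (_ : CommRing A') (w : Spec (CommRingCat.of A') ⟶ X), Flat w ∧ LocallyOfFinitePresentation w ∧
      Surjective w ∧ Nonempty (Over.mk w ⟶ P.X) ∧ Nonempty (Over.mk w ⟶ Q.X) := by
  obtain ⟨Y₁, q₁, s₁, h1, h2, h3, h4, h5⟩ := exists_affine_cover P.isTorsor.2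
  obtain ⟨Y₂, q₂, s₂, h1', h2', h3', h4', h5'⟩ := exists_affine_cover (isLocallyTrivialFor_bc q₁ _ Q.isTorsor.2)
  let w : Spec (CommRingCat.of Γ(Y₂, ⊤)) ⟶ X := Y₂.isoSpec.inv ≫ q₂ ≫ q₁
  refine ⟨Γ(Y₂, ⊤), inferInstance, w, inferInstanceAs (Flat (Y₂.isoSpec.inv ≫ q₂ ≫ q₁)),
    inferInstanceAs (LocallyOfFinitePresentation (Y₂.isoSpec.inv ≫ q₂ ≫ q₁)),
    inferInstanceAs (Surjective (Y₂.isoSpec.inv ≫ q₂ ≫ q₁)),
    ⟨Over.homMk (Y₂.isoSpec.inv ≫ q₂ ≫ s₁) ?_⟩, ⟨Over.homMk (Y₂.isoSpec.inv ≫ s₂ ≫ pullback.fst Q.X.hom q₁) ?_⟩⟩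
  · change (Y₂.isoSpec.inv ≫ q₂ ≫ s₁) ≫ P.X.hom = Y₂.isoSpec.inv ≫ q₂ ≫ q₁
    rw [Category.assoc, Category.assoc, h5]
  · change (Y₂.isoSpec.inv ≫ s₂ ≫ pullback.fst Q.X.hom q₁) ≫ Q.X.hom = Y₂.isoSpec.inv ≫ q₂ ≫ q₁
    have h6 : s₂ ≫ pullback.snd Q.X.hom q₁ = q₂ := h5'
    rw [Category.assoc, Category.assoc, pullback.condition, ← Category.assoc s₂, h6]

section fam

variable {A R A' : Type u} [CommRing A] [CommRing R] [Algebra A R] [CommRing A'] [Algebra R A']
  {X : Scheme.{u}} (j : X ⟶ Spec (CommRingCat.of R)) [Mono j] (q : X ⟶ Spec (CommRingCat.of A))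
  (hq : j ≫ tb A R = q) (w : Spec (CommRingCat.of A') ⟶ X) (hw : w ≫ j = tb R A')

section al

variable {T : Type u} [CommRing T] [Algebra R T] (v : Spec (CommRingCat.of T) ⟶ X) (hv : v ≫ j = tb R T)

/-- the morphism over `X` given by an algebra map -/
noncomputable def al {A'' : Type u} [CommRing A''] [Algebra R A''] {w' : Spec (CommRingCat.of A'') ⟶ X}
    (hw' : w' ≫ j = tb R A'') (φ : A'' →ₐ[R] T) : Over.mk v ⟶ Over.mk w' :=
  Over.homMk (Spec.map (CommRingCat.ofHom (φ : A'' →+* T))) (by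
    change Spec.map _ ≫ w' = v
    rw [← cancel_mono j, Category.assoc, hw', hv]
    exact (Spec.map_comp _ _).symm.trans (by rw [← CommRingCat.ofHom_comp, φ.comp_algebraMap]))

omit [Mono j] in
include hq hv in
lemma v_q [Algebra A T] [IsScalarTower A R T] : v ≫ q = tb A T := by
  rw [← hq, ← Category.assoc, hv]
  exact (Spec.map_comp _ _).symm.trans (by rw [← CommRingCat.ofHom_comp, ← IsScalarTower.algebraMap_eq A R T])

end al

omit [Mono j] in
include hw in
lemma vv {T : Type u} [CommRing T] [Algebra R T] (φ : A' →ₐ[R] T) :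
    (Spec.map (CommRingCat.ofHom (φ : A' →+* T)) ≫ w) ≫ j = tb R T := by
  rw [Category.assoc, hw]
  exact (Spec.map_comp _ _).symm.trans (by rw [← CommRingCat.ofHom_comp, φ.comp_algebraMap])

variable {N : Over (Spec (CommRingCat.of A))} [GrpObj N] [IsCommMonObj N] {P Q : Over X}
  {a : AlgGrp.Action (Red.bc q N) P} {b : AlgGrp.Action (Red.bc q N) Q}
  (ha : IsPseudoTorsorSch a) (hb : IsPseudoTorsorSch b) (x : Over.mk w ⟶ P) (y : Over.mk w ⟶ Q)

/-- the value of the difference family at a point `v` -/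
noncomputable def cv {T : Type u} [CommRing T] [Algebra A T] [Algebra R T] [IsScalarTower A R T]
    (v : Spec (CommRingCat.of T) ⟶ X) (hv : v ≫ j = tb R T) (φ ψ : A' →ₐ[R] T) : sp (algebraMap A T) ⟶ N :=
  up q (v_q j q hq v hv) (kf ha hb x y (al j v hv hw φ) (al j v hv hw ψ))

omit [IsCommMonObj N] in
lemma cv_indep {T : Type u} [CommRing T] [Algebra A T] [Algebra R T] [IsScalarTower A R T]
    {v₁ v₂ : Spec (CommRingCat.of T) ⟶ X} (hv₁ : v₁ ≫ j = tb R T) (hv₂ : v₂ ≫ j = tb R T) (φ ψ : A' →ₐ[R] T) :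
    cv j q hq w hw ha hb x y v₁ hv₁ φ ψ = cv j q hq w hw ha hb x y v₂ hv₂ φ ψ := by
  obtain rfl : v₁ = v₂ := (cancel_mono j).1 (hv₁.trans hv₂.symm)
  rfl

lemma cv_mul {T : Type u} [CommRing T] [Algebra A T] [Algebra R T] [IsScalarTower A R T]
    (v : Spec (CommRingCat.of T) ⟶ X) (hv : v ≫ j = tb R T) (φ ψ χ : A' →ₐ[R] T) :
    cv j q hq w hw ha hb x y v hv ψ χ * cv j q hq w hw ha hb x y v hv φ ψ = cv j q hq w hw ha hb x y v hv φ χ := by
  rw [cv, cv, cv, ← up_mul, kf_mul]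

omit [IsCommMonObj N] in
lemma cv_nat {T T' : Type u} [CommRing T] [Algebra A T] [Algebra R T] [IsScalarTower A R T] [CommRing T']
    [Algebra A T'] [Algebra R T'] [IsScalarTower A R T'] (v : Spec (CommRingCat.of T) ⟶ X) (hv : v ≫ j = tb R T)
    (v' : Spec (CommRingCat.of T') ⟶ X) (hv' : v' ≫ j = tb R T') (θ : T →ₐ[R] T') (φ ψ : A' →ₐ[R] T) :
    ap (θ.restrictScalars A) ≫ cv j q hq w hw ha hb x y v hv φ ψ =
      cv j q hq w hw ha hb x y v' hv' (θ.comp φ) (θ.comp ψ) := by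
  have h1 : Spec.map (CommRingCat.ofHom (θ : T →+* T')) ≫ v = v' := Over.w (al j v' hv' hv θ)
  have h2 := homMk_up (N := N) q (v_q j q hq v hv) (Spec.map (CommRingCat.ofHom (θ : T →+* T'))) h1
    (v_q (A := A) j q hq v' hv') ((Spec.map_comp _ _).symm.trans (by
      rw [← CommRingCat.ofHom_comp]
      congr 2
      exact (θ.restrictScalars A).comp_algebraMap))
    (kf ha hb x y (al j v hv hw φ) (al j v hv hw ψ))
  rw [comp_kf] at h2
  refine Eq.trans ?_ (h2.trans ?_)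
  · rfl
  · unfold cv
    congr 2
    · ext1
      exact (Spec.map_comp _ _).symm
    · ext1
      exact (Spec.map_comp _ _).symm

/-- the relative family of differences of two torsors -/
noncomputable def rf : RFam N R A' where
  c T _ _ _ _ φ ψ := cv j q hq w hw ha hb x y _ (vv j w hw φ) φ ψ
  nat T T' _ _ _ _ _ _ _ _ θ φ ψ := cv_nat j q hq w hw ha hb x y _ _ _ _ θ φ ψ
  mul T _ _ _ _ φ ψ χ := by
    rw [cv_indep j q hq w hw ha hb x y (vv j w hw ψ) (vv j w hw φ)]
    exact cv_mul j q hq w hw ha hb x y _ (vv j w hw φ) φ ψ χ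

lemma rf_c {T : Type u} [CommRing T] [Algebra A T] [Algebra R T] [IsScalarTower A R T]
    (v : Spec (CommRingCat.of T) ⟶ X) (hv : v ≫ j = tb R T) (φ ψ : A' →ₐ[R] T) :
    (rf j q hq w hw ha hb x y).c T φ ψ = cv j q hq w hw ha hb x y v hv φ ψ := cv_indep j q hq w hw ha hb x y _ _ _ _

end fam

section gen

variable {A R A' : Type u} [CommRing A] [CommRing R] [Algebra A R] [CommRing A'] [Algebra R A']
  {X : Scheme.{u}} (j : X ⟶ Spec (CommRingCat.of R)) [Mono j] (q : X ⟶ Spec (CommRingCat.of A))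
  (hq : j ≫ tb A R = q) (w : Spec (CommRingCat.of A') ⟶ X) (hw : w ≫ j = tb R A')
  {N : Over (Spec (CommRingCat.of A))} [GrpObj N] [IsCommMonObj N]
  (P Q : TorsorSch (Red.bc q N) Scheme.fppfPrecoverage) (x : Over.mk w ⟶ P.X) (y : Over.mk w ⟶ Q.X)

/-- Torsors which become isomorphic over `Spec K`: the family is a coboundary there. -/
theorem exists_n_K (K : Type u) [CommRing K] [Algebra R K] [Algebra A K] [IsScalarTower A R K]
    [Module.FaithfullyFlat K (K ⊗[R] A')] [Algebra.FinitePresentation K (K ⊗[R] A')]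
    (g : Spec (CommRingCat.of K) ⟶ X) (hg : g ≫ j = tb R K)
    (h : H1Sch.bcMap g (Red.bc q N) Scheme.fppfPrecoverage P.cl =
      H1Sch.bcMap g (Red.bc q N) Scheme.fppfPrecoverage Q.cl) :
    ∃ n : sp (algebraMap A (K ⊗[R] A')) ⟶ N,
      (rf j q hq w hw P.isTorsor.1 Q.isTorsor.1 x y).c ((K ⊗[R] A') ⊗[K] (K ⊗[R] A'))
        ((t1 R K (K ⊗[R] A')).comp Algebra.TensorProduct.includeRight)
        ((t2 R K (K ⊗[R] A')).comp Algebra.TensorProduct.includeRight) =
          (ap (t2 A K (K ⊗[R] A')) ≫ n) / (ap (t1 A K (K ⊗[R] A')) ≫ n) := by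
  let K' := K ⊗[R] A'
  let T := K' ⊗[K] K'
  let inc : A' →ₐ[R] K' := Algebra.TensorProduct.includeRight
  have h1 : (P.bc g).cl = (Q.bc g).cl := h
  have hvK : (tb K K' ≫ g) ≫ j = tb R K' := by
    rw [Category.assoc, hg]
    exact (Spec.map_comp _ _).symm.trans (by rw [← CommRingCat.ofHom_comp, ← IsScalarTower.algebraMap_eq R K K'])
  have hvT : (tb K T ≫ g) ≫ j = tb R T := by
    rw [Category.assoc, hg]
    exact (Spec.map_comp _ _).symm.trans (by rw [← CommRingCat.ofHom_comp, ← IsScalarTower.algebraMap_eq R K T])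
  let xK : sp (algebraMap K K') ⟶ (P.bc g).X := dn g (v := tb K K') rfl (al j _ hvK hw inc ≫ x)
  let yK : sp (algebraMap K K') ⟶ (Q.bc g).X := dn g (v := tb K K') rfl (al j _ hvK hw inc ≫ y)
  rw [cl_eq_iff_ring (A' := K') xK yK] at h1
  obtain ⟨n₁, hn₁⟩ := h1
  have hqK := v_q (A := A) j q hq _ hvK
  have hqT := v_q (A := A) j q hq _ hvT
  refine ⟨up q hqK (up g rfl n₁), ?_⟩
  have h2 := congrArg (fun z => up q hqT (up g (v := tb K T) rfl z)) hn₁
  beta_reduce at h2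
  -- restriction of the points
  have hap : ∀ φ : K' →ₐ[K] T, Spec.map (CommRingCat.ofHom (φ : K' →+* T)) ≫ tb K K' = tb K T := fun φ =>
    (Spec.map_comp _ _).symm.trans (by rw [← CommRingCat.ofHom_comp, φ.comp_algebraMap])
  have hapg : ∀ φ : K' →ₐ[K] T, Spec.map (CommRingCat.ofHom (φ : K' →+* T)) ≫ (tb K K' ≫ g) = tb K T ≫ g := fun φ => by
    rw [← Category.assoc, hap]
  have hpt : ∀ {Y : Over X} (u : Over.mk w ⟶ Y) (φ : K' →ₐ[K] T),
      ap φ ≫ dn g (v := tb K K') rfl (al j _ hvK hw inc ≫ u) =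
        dn g (v := tb K T) rfl (al j _ hvT hw ((φ.restrictScalars R).comp inc) ≫ u) := by
    intro Y u φ
    have h3 := homMk_dn (N := Y) g (v := tb K K') rfl (Spec.map (CommRingCat.ofHom (φ : K' →+* T))) (hap φ) rfl (hapg φ)
      (al j _ hvK hw inc ≫ u)
    refine Eq.trans ?_ (h3.trans ?_)
    · rfl
    · rw [← Category.assoc]
      congr 2
      ext1
      exact (Spec.map_comp _ _).symm
  have hn2 : ∀ φ : K' →ₐ[K] T, up q hqT (up g (v := tb K T) rfl (ap φ ≫ n₁)) =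
      ap (φ.restrictScalars A) ≫ up q hqK (up g rfl n₁) := by
    intro φ
    have h3 := homMk_up g (v := tb K K') rfl (Spec.map (CommRingCat.ofHom (φ : K' →+* T))) (hap φ)
      (v₂' := tb K T ≫ g) rfl (hapg φ) n₁
    have h4 := homMk_up q hqK (Spec.map (CommRingCat.ofHom (φ : K' →+* T))) (hapg φ) hqT
      ((Spec.map_comp _ _).symm.trans (by
        rw [← CommRingCat.ofHom_comp]
        congr 2
        exact (φ.restrictScalars A).comp_algebraMap)) (up g rfl n₁)
    refine Eq.trans ?_ (h4.symm.trans ?_)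
    · rw [h3]
      rfl
    · rfl
  have hc : ∀ {Y : Over X} {a : AlgGrp.Action (Red.bc q N) Y} (ha : IsPseudoTorsorSch a) (u : Over.mk w ⟶ Y),
      up g (v := tb K T) rfl (df (isPseudoTorsorSch_bc g ha)
        (ap (i1 (A := K) K') ≫ dn g (v := tb K K') rfl (al j _ hvK hw inc ≫ u))
        (ap (i2 (A := K) K') ≫ dn g (v := tb K K') rfl (al j _ hvK hw inc ≫ u))) =
      df ha (al j _ hvT hw ((t1 R K K').comp inc) ≫ u) (al j _ hvT hw ((t2 R K K').comp inc) ≫ u) := by
    intro Y a ha u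
    rw [hpt u (i1 (A := K) K'), hpt u (i2 (A := K) K')]
    exact up_df g (v := tb K T) rfl ha _ _
  rw [rf_c j q hq w hw _ _ x y _ hvT, cv, kf, ← hc P.isTorsor.1 x, ← hc Q.isTorsor.1 y, ← up_div]
  refine Eq.trans ?_ (h2.trans ?_)
  · rfl
  · rw [up_div, up_div]
    exact congrArg₂ (· / ·) (hn2 (i2 (A := K) K')) (hn2 (i1 (A := K) K'))

/-- A coboundary gives an isomorphism of torsors. -/
theorem cl_eq_of_n (hcov : IsLocallyTrivialFor Scheme.fppfPrecoverage (Over.mk w)) [Algebra A A']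
    [IsScalarTower A R A'] (n' : sp (algebraMap A A') ⟶ N)
    (h : ∀ (T : Type u) [CommRing T] [Algebra A T] [Algebra R T] [IsScalarTower A R T] (φ ψ : A' →ₐ[R] T),
      (rf j q hq w hw P.isTorsor.1 Q.isTorsor.1 x y).c T φ ψ =
        (ap (ψ.restrictScalars A) ≫ n') / (ap (φ.restrictScalars A) ≫ n')) : P.cl = Q.cl := by
  let Z : Over X := Over.mk w
  have hwj : IsAffineHom (w ≫ j) := by
    have : IsAffineHom (tb R A') := inferInstance
    rwa [← hw] at this
  have hwa : IsAffineHom w := IsAffineHom.of_comp w j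
  have haff : IsAffine (pullback w w) := isAffine_of_isAffineHom (pullback.fst w w)
  let T := Γ(pullback w w, ⊤)
  let e : Spec (CommRingCat.of T) ≅ pullback w w := (pullback w w).isoSpec.symm
  let vT : Spec (CommRingCat.of T) ⟶ X := e.hom ≫ (Z ⊗ Z).hom
  let _ : Algebra R T := (Spec.preimage (vT ≫ j)).hom.toAlgebra
  have hvT : vT ≫ j = tb R T := (Spec.map_preimage (vT ≫ j)).symm
  let _ : Algebra A T := ((algebraMap R T).comp (algebraMap A R)).toAlgebra
  have : IsScalarTower A R T := IsScalarTower.of_algebraMap_eq fun _ => rfl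
  let ε : Over.mk vT ≅ Z ⊗ Z := Over.isoMk e rfl
  -- the projections as algebra maps
  have hal : ∀ r : Z ⊗ Z ⟶ Z, ∃ φ : A' →ₐ[R] T, al j vT hvT hw φ = ε.hom ≫ r := by
    intro r
    let φ₀ : A' →+* T := (Spec.preimage (e.hom ≫ r.left)).hom
    have hφ₀ : Spec.map (CommRingCat.ofHom φ₀) = e.hom ≫ r.left := Spec.map_preimage (e.hom ≫ r.left)
    have h1 : φ₀.comp (algebraMap R A') = algebraMap R T := by
      have h2 : Spec.map (CommRingCat.ofHom (φ₀.comp (algebraMap R A'))) = tb R T := by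
        rw [CommRingCat.ofHom_comp, Spec.map_comp, hφ₀, ← hvT]
        change (e.hom ≫ r.left) ≫ tb R A' = (e.hom ≫ (Z ⊗ Z).hom) ≫ j
        rw [← hw, ← Over.w r]
        simp only [Category.assoc]
        rfl
      exact congrArg CommRingCat.Hom.hom (Spec.map_injective h2)
    refine ⟨{ φ₀ with commutes' := fun a => congr($h1 a) }, ?_⟩
    ext1
    exact hφ₀
  obtain ⟨φ, hφ⟩ := hal (fst Z Z)
  obtain ⟨ψ, hψ⟩ := hal (snd Z Z)
  have hqT := v_q (A := A) j q hq _ hvT
  have hqw := v_q (A := A) j q hq _ hw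
  have hup : ∀ φ : A' →ₐ[R] T, up q hqT (al j vT hvT hw φ ≫ dn q hqw n') = ap (φ.restrictScalars A) ≫ n' := by
    intro φ
    have h3 := homMk_up q hqw (Spec.map (CommRingCat.ofHom (φ : A' →+* T))) (Over.w (al j vT hvT hw φ)) hqT
      ((Spec.map_comp _ _).symm.trans (by
        rw [← CommRingCat.ofHom_comp]
        congr 2
        exact (φ.restrictScalars A).comp_algebraMap)) (dn q hqw n')
    rw [up_dn] at h3
    exact h3.symm
  rw [cl_eq_iff, equivIso_iff Scheme.fppfPrecoverage_le_fpqcPrecoverage P.isTorsor.1 Q.isTorsor.1 hcov x y]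
  refine ⟨dn q hqw n', ?_⟩
  change kf P.isTorsor.1 Q.isTorsor.1 x y (fst Z Z) (snd Z Z) = _
  rw [← cancel_epi ε.hom, comp_kf, GrpObj.comp_div, ← Category.assoc, ← Category.assoc, ← hφ, ← hψ]
  apply up_injective q hqT
  rw [up_div, hup, hup, ← h T φ ψ, rf_c j q hq w hw _ _ x y vT hvT]
  rfl

end gen

end K832.GeoMain
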