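import Groth.Agent.MultTori.K832.BcSec
import Groth.Agent.MultTori.K964.BcCl

/-!
# Points of base changes, scheme version
-/

set_option autoImplicit false
universe u

open CategoryTheory CategoryTheory.Limits MonoidalCategory CartesianMonoidalCategory MonObj GrpObj AlgebraicGeometry

namespace K832.GeoPt

open K964.Pt K964.Cocyc NonAbH1

variable {X S : Scheme.{u}} (q : X ⟶ S) {N : Over S}

section up

variable {W : Scheme.{u}} {v : W ⟶ X} {v' : W ⟶ S} (h : v ≫ q = v')

/-- the point of `N` underlying a point of the base change -/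
noncomputable def up (z : Over.mk v ⟶ Red.bc q N) : Over.mk v' ⟶ N :=
  Over.homMk (z.left ≫ pullback.fst N.hom q) (by
    have h1 : z.left ≫ pullback.snd N.hom q = v := Over.w z
    change (z.left ≫ pullback.fst N.hom q) ≫ N.hom = v'
    rw [Category.assoc, pullback.condition, ← Category.assoc, h1, h])

/-- the point of the base change defined by a point of `N` -/
noncomputable def dn (z : Over.mk v' ⟶ N) : Over.mk v ⟶ Red.bc q N :=
  Over.homMk (pullback.lift z.left v (by
    have h1 : z.left ≫ N.hom = v' := Over.w z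
    rw [h1, h])) (pullback.lift_snd _ _ _)

@[simp] lemma up_left (z : Over.mk v ⟶ Red.bc q N) : (up q h z).left = z.left ≫ pullback.fst N.hom q := rfl

@[simp] lemma up_dn (z : Over.mk v' ⟶ N) : up q h (dn q h z) = z := by
  ext1
  exact pullback.lift_fst _ _ _

@[simp] lemma dn_up (z : Over.mk v ⟶ Red.bc q N) : dn q h (up q h z) = z := by
  ext1
  apply pullback.hom_ext
  · exact pullback.lift_fst _ _ _
  · have h1 : z.left ≫ pullback.snd N.hom q = v := Over.w z
    exact (pullback.lift_snd _ _ _).trans h1.symm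

lemma up_injective : Function.Injective (up q h : (Over.mk v ⟶ Red.bc q N) → _) :=
  Function.LeftInverse.injective (dn_up q h)

/-- naturality -/
lemma homMk_up {W₂ : Scheme.{u}} (f : W₂ ⟶ W) {v₂ : W₂ ⟶ X} {v₂' : W₂ ⟶ S} (hf : f ≫ v = v₂) (h₂ : v₂ ≫ q = v₂')
    (hf' : f ≫ v' = v₂') (z : Over.mk v ⟶ Red.bc q N) :
    (Over.homMk f hf' : Over.mk v₂' ⟶ Over.mk v') ≫ up q h z =
      up q h₂ ((Over.homMk f hf : Over.mk v₂ ⟶ Over.mk v) ≫ z) := by
  ext1
  exact (Category.assoc _ _ _).symm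

/-- naturality -/
lemma homMk_dn {W₂ : Scheme.{u}} (f : W₂ ⟶ W) {v₂ : W₂ ⟶ X} {v₂' : W₂ ⟶ S} (hf : f ≫ v = v₂) (h₂ : v₂ ≫ q = v₂')
    (hf' : f ≫ v' = v₂') (z : Over.mk v' ⟶ N) :
    (Over.homMk f hf : Over.mk v₂ ⟶ Over.mk v) ≫ dn q h z =
      dn q h₂ ((Over.homMk f hf' : Over.mk v₂' ⟶ Over.mk v') ≫ z) := by
  apply up_injective q h₂
  rw [up_dn, ← homMk_up q h f hf h₂ hf', up_dn]

variable {Y : Over S}

/-- the comparison -/
noncomputable abbrev cmpI : (Over.map q).obj (Over.mk v) ≅ Over.mk v' := Over.isoMk (Iso.refl _) (by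
  change 𝟙 _ ≫ v' = v ≫ q
  rw [Category.id_comp, h])

lemma dn_eq (z : Over.mk v' ⟶ N) : dn q h z = (Over.mapPullbackAdj q).homEquiv (Over.mk v) N ((cmpI q h).hom ≫ z) := by
  apply (Equiv.symm_apply_eq _).1
  rw [Adjunction.homEquiv_counit]
  ext1
  rw [Over.comp_left, Over.comp_left, Over.mapPullbackAdj_counit_app]
  change pullback.lift _ _ _ ≫ pullback.fst _ _ = 𝟙 _ ≫ z.left
  rw [pullback.lift_fst, Category.id_comp]

end up

section grp

variable [GrpObj N] {W : Scheme.{u}} {v : W ⟶ X} {v' : W ⟶ S} (h : v ≫ q = v')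

lemma dn_mul (x y : Over.mk v' ⟶ N) : dn q h (x * y) = dn q h x * dn q h y := by
  rw [dn_eq, dn_eq, dn_eq, ← AlgGrp.Action.homEquiv_mul, comp_mul]

lemma up_mul (x y : Over.mk v ⟶ Red.bc q N) : up q h (x * y) = up q h x * up q h y := by
  have h1 := dn_mul q h (up q h x) (up q h y)
  rw [dn_up, dn_up] at h1
  rw [← h1, up_dn]

/-- the points as a group -/
noncomputable def upE : (Over.mk v ⟶ Red.bc q N) ≃* (Over.mk v' ⟶ N) where
  toFun := up q h
  invFun := dn q h
  left_inv := dn_up q h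
  right_inv := up_dn q h
  map_mul' := up_mul q h

lemma up_div (x y : Over.mk v ⟶ Red.bc q N) : up q h (x / y) = up q h x / up q h y := map_div (upE q h) x y

lemma dn_div (x y : Over.mk v' ⟶ N) : dn q h (x / y) = dn q h x / dn q h y := map_div (upE q h).symm x y

variable {Y : Over S} {a : AlgGrp.Action N Y}

lemma dn_sm (g : Over.mk v' ⟶ N) (x : Over.mk v' ⟶ Y) :
    dn q h (sm a g x) = sm (a.bc q) (dn q h g) (dn q h x) := by
  rw [dn_eq, dn_eq, dn_eq, sm, sm, AlgGrp.Action.lift_homEquiv_bc_act, comp_lift_assoc]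

lemma dn_df (ha : IsPseudoTorsorSch a) (x y : Over.mk v' ⟶ Y) :
    dn q h (df ha x y) = df (isPseudoTorsorSch_bc q ha) (dn q h x) (dn q h y) :=
  eq_df _ (by rw [← dn_sm, sm_df])

lemma up_df (ha : IsPseudoTorsorSch a) (x y : Over.mk v' ⟶ Y) :
    up q h (df (isPseudoTorsorSch_bc q ha) (dn q h x) (dn q h y)) = df ha x y := by
  rw [← dn_df, up_dn]

end grp

section fam

/-! ### The difference family of two torsors -/

variable {G P Q Z : Over X} [GrpObj G] [IsCommMonObj G] {a : AlgGrp.Action G P} {b : AlgGrp.Action G Q}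
  (ha : IsPseudoTorsorSch a) (hb : IsPseudoTorsorSch b) (x : Z ⟶ P) (y : Z ⟶ Q)

/-- the difference of the differences -/
noncomputable def kf {W : Over X} (s t : W ⟶ Z) : W ⟶ G :=
  df ha (s ≫ x) (t ≫ x) / df hb (s ≫ y) (t ≫ y)

omit [IsCommMonObj G] in
lemma comp_kf {W W' : Over X} (r : W' ⟶ W) (s t : W ⟶ Z) : r ≫ kf ha hb x y s t = kf ha hb x y (r ≫ s) (r ≫ t) := by
  rw [kf, kf, GrpObj.comp_div, comp_df, comp_df]
  simp only [Category.assoc]

lemma kf_mul {W : Over X} (r s t : W ⟶ Z) : kf ha hb x y s t * kf ha hb x y r s = kf ha hb x y r t := by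
  rw [kf, kf, kf, ← df_mul ha (r ≫ x) (s ≫ x) (t ≫ x), ← df_mul hb (r ≫ y) (s ≫ y) (t ≫ y)]
  exact div_mul_div_comm _ _ _ _

end fam

end K832.GeoPt
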