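import Groth.Agent.MultTori.K832.GeoMain

/-!
# Generic isomorphism implies isomorphism, over an open subscheme of `Spec R`
-/

set_option autoImplicit false
universe u

open CategoryTheory CategoryTheory.Limits MonoidalCategory CartesianMonoidalCategory AlgebraicGeometry
open TensorProduct

namespace K832.OpenGen

open K964.UC K964.CharExt K964.AffPt K964.Pt K964.Cocyc K964.Desc K964.BcPt K964.BcCl K964.DictBc K964.DivSec
  K832.RelFam K832.GeoPt K832.GeoMain K832.BcSec NonAbH1
open K965.Pts (sp mp)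
open scoped MonObj GrpObj

attribute [local instance] actBc commBc

section comp

variable {X Y Z : Scheme.{u}} (f : Y ⟶ X) (s : Z ⟶ Y) {G : Over X} [GrpObj G] {K : Precoverage Scheme.{u}}
  [K.IsStableUnderBaseChange] {P Q : TorsorSch G K}

instance isMonHom_inv_bcComp {d : Z ⟶ X} (h : s ≫ f = d) : IsMonHom (ActBC.bcCompIso s f G h).inv := by
  have : IsMonHom (ActBC.bcCompIso s f G h).hom := ActBC.bcCompIso_isMonHom s f h
  infer_instance

/-- equality of classes is preserved by a further base change -/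
theorem cl_bc_comp (h : (P.bc f).cl = (Q.bc f).cl) {d : Z ⟶ X} (hd : s ≫ f = d) : (P.bc d).cl = (Q.bc d).cl := by
  rw [cl_eq_iff] at h ⊢
  obtain ⟨e⟩ := h
  have e1 : EquivIso ((P.act.bc f).bc s) ((Q.act.bc f).bc s) := EquivIso.bc s e
  have e2 : EquivIso ((P.act.bc d).restrict (ActBC.bcCompIso s f G hd).hom)
      ((Q.act.bc d).restrict (ActBC.bcCompIso s f G hd).hom) :=
    transE (symmE (ActBC.equivIsoBcComp s f hd P.act)) (transE e1 (ActBC.equivIsoBcComp s f hd Q.act))
  have e3 := restrictE (ActBC.bcCompIso s f G hd).inv e2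
  have h4 : ∀ {X' : Over Z} (a : AlgGrp.Action (Red.bc d G) X'),
      ((a.restrict (ActBC.bcCompIso s f G hd).hom).restrict (ActBC.bcCompIso s f G hd).inv).act = a.act := by
    intro X' a
    rw [AlgGrp.Action.restrict_act, AlgGrp.Action.restrict_act, ← comp_whiskerRight_assoc, Iso.inv_hom_id,
      id_whiskerRight, Category.id_comp]
  exact ⟨transE (eqE (h4 (P.act.bc d)).symm) (transE e3 (eqE (h4 (Q.act.bc d))))⟩

end comp

section alg

variable {R A' : Type u} [CommRing R] [CommRing A'] [Algebra R A']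

/-- compact opens as unions of basic opens -/
theorem exists_basic (U : TopologicalSpace.Opens (PrimeSpectrum R)) (hU : IsCompact (U : Set (PrimeSpectrum R))) :
    ∃ (n : ℕ) (f : Fin n → R), (∀ i, f i ≠ 0) ∧ ∀ p : PrimeSpectrum R, p ∈ U ↔ ∃ i, f i ∉ p.asIdeal := by
  obtain ⟨s, hs, h⟩ := (PrimeSpectrum.isBasis_basic_opens.isCompact_open_iff_eq_finite_iUnion
    (PrimeSpectrum.basicOpen (R := R)) (fun i => PrimeSpectrum.isCompact_basicOpen i) (U : Set (PrimeSpectrum R))).1
    ⟨hU, U.2⟩
  let s' : Set R := s \ {0}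
  have hs' : s'.Finite := hs.subset Set.sdiff_subset
  have := hs'.to_subtype
  obtain ⟨n, ⟨e⟩⟩ := Finite.exists_equiv_fin s'
  refine ⟨n, fun i => (e.symm i).1, fun i => (e.symm i).2.2, fun p => ?_⟩
  change p ∈ (U : Set (PrimeSpectrum R)) ↔ _
  rw [h, Set.mem_iUnion₂]
  constructor
  · rintro ⟨f, hf, hp⟩
    have hp' : f ∉ p.asIdeal := hp
    have hf0 : f ≠ 0 := by
      rintro rfl
      exact hp' (Ideal.zero_mem _)
    have h1 : ((e.symm (e ⟨f, hf, hf0⟩)) : R) = f := by rw [Equiv.symm_apply_apply]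
    exact ⟨e ⟨f, hf, hf0⟩, fun h2 => hp' (by rw [← h1]; exact h2)⟩
  · rintro ⟨i, hi⟩
    exact ⟨_, (e.symm i).2.1, hi⟩

attribute [local instance] Algebra.TensorProduct.rightAlgebra in
/-- faithful flatness over a basic open contained in the image -/
theorem ff_away [Module.Flat R A'] (f : R)
    (h : ∀ p : PrimeSpectrum R, f ∉ p.asIdeal → ∃ q : PrimeSpectrum A', PrimeSpectrum.comap (algebraMap R A') q = p) :
    Module.FaithfullyFlat (Localization.Away f) (Localization.Away f ⊗[R] A') := by
  let R₁ := Localization.Away f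
  apply Module.FaithfullyFlat.of_comap_surjective
  intro p₁
  have hp : f ∉ (PrimeSpectrum.comap (algebraMap R R₁) p₁).asIdeal := by
    intro h1
    have h2 : algebraMap R R₁ f ∈ p₁.asIdeal := h1
    exact p₁.isPrime.ne_top (Ideal.eq_top_of_isUnit_mem _ h2 (IsLocalization.Away.algebraMap_isUnit f))
  obtain ⟨q, hq⟩ := h _ hp
  have hloc : IsLocalization (Algebra.algebraMapSubmonoid A' (Submonoid.powers f)) (R₁ ⊗[R] A') :=
    IsLocalization.tensorRight R₁ (Submonoid.powers f)
  have hdisj : q ∈ Set.range (PrimeSpectrum.comap (algebraMap A' (R₁ ⊗[R] A'))) := by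
    rw [PrimeSpectrum.localization_comap_range _ (Algebra.algebraMapSubmonoid A' (Submonoid.powers f))]
    change Disjoint _ _
    rw [Set.disjoint_left]
    rintro _ ⟨_, ⟨k, rfl⟩, rfl⟩ hk
    have h2 : algebraMap R A' f ^ k ∈ q.asIdeal := by
      rw [← map_pow]
      exact hk
    have h3 := q.isPrime.mem_of_pow_mem _ h2
    apply hp
    rw [← hq]
    exact h3
  obtain ⟨q₁, hq₁⟩ := hdisj
  refine ⟨q₁, ?_⟩
  apply PrimeSpectrum.localization_comap_injective R₁ (Submonoid.powers f)
  rw [← hq, ← hq₁, ← PrimeSpectrum.comap_comp_apply, ← PrimeSpectrum.comap_comp_apply]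
  congr 1
  ext r
  change (algebraMap R R₁ r) ⊗ₜ[R] (1 : A') = (1 : R₁) ⊗ₜ[R] (algebraMap R A' r)
  rw [Algebra.algebraMap_eq_smul_one, Algebra.algebraMap_eq_smul_one, TensorProduct.smul_tmul]

end alg

section main

variable {A B : Type u} [CommRing A] [CommRing B] [Algebra A B] {G : Type} [Group G]
    [MulSemiringAction G B] [SMulCommClass G A B]
    {N : Over (Spec (CommRingCat.of A))} [GrpObj N] [IsCommMonObj N] {Λ : Type} [AddCommGroup Λ]
    [DistribMulAction G Λ] (D : K965.Dict A B G N Λ) {R : Type u} [CommRing R] [Algebra A R]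

include D in
/-- **Generically isomorphic torsors are isomorphic**, over a compact open subscheme of `Spec R`. -/
theorem cl_eq_of_generic [Module.FaithfullyFlat A B] [Module.Finite A B] [IsDomain R] [IsDomain (R ⊗[A] B)]
    [UniqueFactorizationMonoid (R ⊗[A] B)] (h90 : H90P (R ⊗[A] B) G)
    {X : Scheme.{u}} [CompactSpace X] (j : X ⟶ Spec (CommRingCat.of R)) [IsOpenImmersion j]
    (q : X ⟶ Spec (CommRingCat.of A)) (hq : j ≫ tb A R = q) (K : Type u) [Field K] [Algebra R K] [IsFractionRing R K]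
    (g : Spec (CommRingCat.of K) ⟶ X) (hg : g ≫ j = tb R K)
    (P Q : TorsorSch (Red.bc q N) Scheme.fppfPrecoverage)
    (h : H1Sch.bcMap g (Red.bc q N) Scheme.fppfPrecoverage P.cl =
      H1Sch.bcMap g (Red.bc q N) Scheme.fppfPrecoverage Q.cl) : P.cl = Q.cl := by
  let _ : Algebra A K := ((algebraMap R K).comp (algebraMap A R)).toAlgebra
  have : IsScalarTower A R K := IsScalarTower.of_algebraMap_eq fun _ => rfl
  obtain ⟨A', _, w, hwf, hwp, hws, ⟨x⟩, ⟨y⟩⟩ := exists_common_cover P Q
  let _ : Algebra R A' := (Spec.preimage (w ≫ j)).hom.toAlgebra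
  have hw : w ≫ j = tb R A' := (Spec.map_preimage (w ≫ j)).symm
  let _ : Algebra A A' := ((algebraMap R A').comp (algebraMap A R)).toAlgebra
  have : IsScalarTower A R A' := IsScalarTower.of_algebraMap_eq fun _ => rfl
  have hflat : Module.Flat R A' := by
    have h1 : Flat (tb R A') := by rw [← hw]; infer_instance
    have h2 : (algebraMap R A').Flat := (HasRingHomProperty.Spec_iff (P := @Flat)).1 h1
    exact (RingHom.flat_algebraMap_iff).1 h2
  have hfp : Algebra.FinitePresentation R A' := by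
    have h1 : LocallyOfFinitePresentation (tb R A') := by rw [← hw]; infer_instance
    have h2 : (algebraMap R A').FinitePresentation :=
      (HasRingHomProperty.Spec_iff (P := @LocallyOfFinitePresentation)).1 h1
    exact (RingHom.finitePresentation_algebraMap).1 h2
  -- the generic point
  have hwsurj : ∀ z : X, ∃ p : Spec (CommRingCat.of A'), w p = z := hws.surj
  have hnt : Nontrivial A' := by
    obtain ⟨z⟩ := (inferInstance : Nonempty (Spec (CommRingCat.of K)))
    obtain ⟨p, -⟩ := hwsurj (g z)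
    exact PrimeSpectrum.nontrivial (show PrimeSpectrum A' from p)
  have hRK : Function.Injective (algebraMap R K) := IsFractionRing.injective R K
  have hinc : Function.Injective (Algebra.TensorProduct.includeRight : A' →ₐ[R] K ⊗[R] A') :=
    Algebra.TensorProduct.includeRight_injective hRK
  have hntK : Nontrivial (K ⊗[R] A') := hinc.nontrivial
  obtain ⟨n, hn⟩ := exists_n_K (A := A) j q hq w hw P Q x y K g hg h
  -- basic opens
  obtain ⟨m, f, hf0, hf⟩ := exists_basic (R := R) (Scheme.Hom.opensRange j) (by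
    have h1 : IsCompact (Set.range j) := isCompact_range j.continuous
    exact h1)
  have hspan : Ideal.span (Set.range fun i => algebraMap R A' (f i)) = ⊤ := by
    by_contra hne
    obtain ⟨M, hM, hle⟩ := Ideal.exists_le_maximal _ hne
    let p : PrimeSpectrum A' := ⟨M, hM.isPrime⟩
    have h1 : PrimeSpectrum.comap (algebraMap R A') p ∈ (Scheme.Hom.opensRange j : TopologicalSpace.Opens (PrimeSpectrum R)) := by
      refine ⟨w p, ?_⟩
      exact congr($hw p)
    obtain ⟨i, hi⟩ := (hf _).1 h1
    exact hi (hle (Ideal.subset_span ⟨i, rfl⟩))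
  have hff : ∀ i, Module.FaithfullyFlat (Localization.Away (f i)) (Localization.Away (f i) ⊗[R] A') := by
    intro i
    refine ff_away (f i) fun p hp => ?_
    obtain ⟨z, hz⟩ := (hf p).2 ⟨i, hp⟩
    obtain ⟨p', hp'⟩ := hwsurj z
    refine ⟨p', ?_⟩
    rw [← hz, ← hp']
    exact (congr($hw p')).symm
  obtain ⟨n', hn'⟩ := exists_point_rel D (rf j q hq w hw P.isTorsor.1 Q.isTorsor.1 x y) K h90 f hf0 hspan hff n hn
  refine cl_eq_of_n j q hq w hw P Q x y ?_ n' hn'
  refine ⟨_, Scheme.Hom.singleton_mem_fppfPrecoverage w, ?_⟩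
  rintro Y g ⟨⟩
  exact ⟨𝟙 _, Category.id_comp _⟩

end main

end K832.OpenGen
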