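import Groth.Agent.MultTori.K964.Desc

/-!
# Characters of cocycles when line bundles lift trivialisations from a closed subscheme

`PL π`: every invertible `B`-module with a trivialised base change along `π : B → B₀` is free.
* `exists_unit_pl`: unit cocycles which become coboundaries over a quotient `K` of `A` are coboundaries if
  `PL (B → K ⊗ B)`;
* `exists_mem_pl`: the surjectivity of `E D c → Λ` in this situation;
* `exists_point_of_ringRetr`: a cocycle which is a coboundary over `K` is a coboundary, when there is an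
  equivariant ring map `K ⊗ B → B` which is a retraction on units.
-/

set_option autoImplicit false
universe u

open CategoryTheory CategoryTheory.Limits MonoidalCategory CartesianMonoidalCategory AlgebraicGeometry
open TensorProduct

namespace K832.PicLift

open K965.Gal K964.UC K964.CharExt K964.AffPt K964.AffYon K964.Pt K964.TorsY K964.Cocyc K964.ExtE K964.Desc
open K965.Pts (sp mp)
open Groth.Agent.Sga4h.UnitCocycle
open scoped MonObj GrpObj

/-- Line bundles trivialised along `π` are trivial. -/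
def PL {B B₀ : Type u} [CommRing B] [CommRing B₀] (π : B → B₀) : Prop :=
  ∀ (P : Type u) [AddCommGroup P] [Module B P] [Module.Invertible B P] (ψ : P →+ B₀),
    (∀ (b : B) (p : P), ψ (b • p) = π b * ψ p) → ∀ p₀ : P, ψ p₀ = 1 →
      ∃ e : P, Function.Bijective (fun b : B => b • e)

section ff

variable {A B : Type u} [CommRing A] [CommRing B] [Algebra A B] {K K' : Type u} [CommRing K] [CommRing K']
  [Algebra A K] [Algebra K K'] [Algebra A K'] [IsScalarTower A K K']

/-- descent of the unit ideal along `K ⊗ B → K' ⊗ B` -/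
theorem eq_top_of_map [Module.FaithfullyFlat K K'] (I : Ideal (K ⊗[A] B))
    (h : (1 : K' ⊗[A] B) ∈ I.map (mB B (IsScalarTower.toAlgHom A K K') : K ⊗[A] B →+* K' ⊗[A] B)) : I = ⊤ := by
  rw [← Ideal.Quotient.subsingleton_iff]
  let Q := (K ⊗[A] B) ⧸ I
  let _ : CommRing Q := inferInstanceAs (CommRing ((K ⊗[A] B) ⧸ I))
  let T := K' ⊗[K] Q
  let f : B →ₐ[A] T := ((Algebra.TensorProduct.includeRight : Q →ₐ[K] T).restrictScalars A).comp
    (((Ideal.Quotient.mkₐ K I).restrictScalars A).comp (Algebra.TensorProduct.includeRight : B →ₐ[A] K ⊗[A] B))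
  let θ : K' ⊗[A] B →ₐ[A] T := Algebra.TensorProduct.lift
    ((Algebra.TensorProduct.includeLeft : K' →ₐ[K] T).restrictScalars A) f (fun _ _ => Commute.all _ _)
  have hθ : ∀ z : K ⊗[A] B, θ (mB B (IsScalarTower.toAlgHom A K K') z) = 1 ⊗ₜ[K] Ideal.Quotient.mk I z := by
    intro z
    induction z using TensorProduct.induction_on with
    | zero => simp
    | tmul k b =>
      have h1 : Ideal.Quotient.mk I (k ⊗ₜ[A] b) = k • Ideal.Quotient.mk I (1 ⊗ₜ[A] b) := by
        change _ = k • Ideal.Quotient.mkₐ K I (1 ⊗ₜ[A] b)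
        rw [← map_smul, TensorProduct.smul_tmul', smul_eq_mul, mul_one]
        rfl
      rw [h1, ← TensorProduct.smul_tmul, Algebra.TensorProduct.map_tmul, Algebra.TensorProduct.lift_tmul]
      change (algebraMap K K' k ⊗ₜ[K] (1 : Q)) * (1 ⊗ₜ[K] Ideal.Quotient.mk I (1 ⊗ₜ[A] b)) = _
      rw [Algebra.TensorProduct.tmul_mul_tmul, mul_one, one_mul, Algebra.algebraMap_eq_smul_one]
    | add x y hx hy => rw [map_add, map_add, hx, hy, map_add, TensorProduct.tmul_add]
  have h1 : I.map (mB B (IsScalarTower.toAlgHom A K K') : K ⊗[A] B →+* K' ⊗[A] B) ≤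
      RingHom.ker (θ : K' ⊗[A] B →+* T) := by
    rw [Ideal.map_le_iff_le_comap]
    intro z hz
    rw [Ideal.mem_comap, RingHom.mem_ker]
    change θ (mB B (IsScalarTower.toAlgHom A K K') z) = 0
    rw [hθ, Ideal.Quotient.eq_zero_iff_mem.2 hz, TensorProduct.tmul_zero]
  have h2 : (1 : T) = 0 := by
    have h3 := h1 h
    rw [RingHom.mem_ker, map_one] at h3
    exact h3
  have h3 : Subsingleton T := subsingleton_of_zero_eq_one h2.symm
  exact Module.FaithfullyFlat.lTensor_reflects_triviality K K' Q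

lemma includeRight_surjective (h : Function.Surjective (algebraMap A K)) :
    Function.Surjective (Algebra.TensorProduct.includeRight : B →ₐ[A] K ⊗[A] B) := by
  intro z
  induction z using TensorProduct.induction_on with
  | zero => exact ⟨0, map_zero _⟩
  | tmul k b =>
    obtain ⟨a, rfl⟩ := h k
    refine ⟨a • b, ?_⟩
    change (1 : K) ⊗ₜ[A] (a • b) = _
    rw [← TensorProduct.smul_tmul, Algebra.algebraMap_eq_smul_one]
  | add x y hx hy =>
    obtain ⟨b, hb⟩ := hx
    obtain ⟨c, hc⟩ := hy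
    exact ⟨b + c, by rw [map_add, hb, hc]⟩

end ff

section unit

variable {A B : Type u} [CommRing A] [CommRing B] [Algebra A B] {A' : Type u} [CommRing A'] [Algebra A A']

/-- **Unit cocycles are coboundaries** when they are coboundaries over a quotient `K` and trivialisations lift. -/
theorem exists_unit_pl [Module.FaithfullyFlat A A'] [Module.Flat A B]
    (u : ∀ (T : Type u) [CommRing T] [Algebra A T], (A' →ₐ[A] T) → (A' →ₐ[A] T) → (T ⊗[A] B)ˣ)
    (hnat : ∀ (T T' : Type u) [CommRing T] [Algebra A T] [CommRing T'] [Algebra A T'] (θ : T →ₐ[A] T')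
      (φ ψ : A' →ₐ[A] T), mB B θ (u T φ ψ : T ⊗[A] B) = u T' (θ.comp φ) (θ.comp ψ))
    (hcoc : ∀ (T : Type u) [CommRing T] [Algebra A T] (φ ψ χ : A' →ₐ[A] T),
      (u T φ ψ : T ⊗[A] B) * u T ψ χ = u T φ χ)
    (K : Type u) [CommRing K] [Algebra A K] (hK : Function.Surjective (algebraMap A K))
    (hPL : PL (fun b : B => (1 : K) ⊗ₜ[A] b))
    (K' : Type u) [CommRing K'] [Algebra K K'] [Algebra A K'] [IsScalarTower A K K'] [Module.FaithfullyFlat K K']
    (i : A' →ₐ[A] K') (ν : (K' ⊗[A] B)ˣ)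
    (hν : (u (K' ⊗[K] K') ((t1 A K K').comp i) ((t2 A K K').comp i) : (K' ⊗[K] K') ⊗[A] B) *
      mB B (t1 A K K') (ν : K' ⊗[A] B) = mB B (t2 A K K') (ν : K' ⊗[A] B)) :
    ∃ d : (A' ⊗[A] B)ˣ, ∀ (T : Type u) [CommRing T] [Algebra A T] (φ ψ : A' →ₐ[A] T),
      (u T φ ψ : T ⊗[A] B) * mB B φ (d : A' ⊗[A] B) = mB B ψ (d : A' ⊗[A] B) := by
  let C := B ⊗[A] A'
  let u₀ : (C ⊗[B] C)ˣ := Units.map (ev (C ⊗[B] C) : (C ⊗[B] C) ⊗[A] B →ₐ[A] _).toRingHom.toMonoidHom
    (u (C ⊗[B] C) (jl A B A') (jr A B A'))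
  have hu₀ : (u₀ : C ⊗[B] C) = ev (C ⊗[B] C) (u (C ⊗[B] C) (jl A B A') (jr A B A') : (C ⊗[B] C) ⊗[A] B) := rfl
  -- images of `u₀`
  have himg : ∀ (T : Type u) [CommRing T] [Algebra A T] [Algebra B T] [IsScalarTower A B T] (θ : C ⊗[B] C →ₐ[B] T),
      θ (u₀ : C ⊗[B] C) = ev T (u T ((θ.restrictScalars A).comp (jl A B A'))
        ((θ.restrictScalars A).comp (jr A B A')) : T ⊗[A] B) := by
    intro T _ _ _ _ θ
    rw [hu₀, ← ev_mB, hnat]
  have hc : IsCocycle (u₀ : C ⊗[B] C) := by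
    have h1 := himg ((C ⊗[B] C) ⊗[B] C) e12
    have h2 := himg ((C ⊗[B] C) ⊗[B] C) e23
    have h3 := himg ((C ⊗[B] C) ⊗[B] C) e13
    rw [IsCocycle, h1, h2, h3, ← map_mul]
    congr 1
    have e1 : ((e12 (B := B) (C := C)).restrictScalars A).comp (jr A B A') =
        ((e23 (B := B) (C := C)).restrictScalars A).comp (jl A B A') := by
      ext x
      simp [jl, jr, e12, e23]
    have e2 : ((e12 (B := B) (C := C)).restrictScalars A).comp (jl A B A') =
        ((e13 (B := B) (C := C)).restrictScalars A).comp (jl A B A') := by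
      ext x
      simp [jl, e12, e13]
    have e3 : ((e23 (B := B) (C := C)).restrictScalars A).comp (jr A B A') =
        ((e13 (B := B) (C := C)).restrictScalars A).comp (jr A B A') := by
      ext x
      simp [jr, e23, e13]
    rw [e1, e2, e3, hcoc]
  -- the elements of `L u₀` as solutions
  have key : ∀ l ∈ L (u₀ : C ⊗[B] C), ∀ (T : Type u) [CommRing T] [Algebra A T] (φ ψ : A' →ₐ[A] T),
      (u T φ ψ : T ⊗[A] B) * mB B φ ((Algebra.TensorProduct.comm A A' B).symm l) =
        mB B ψ ((Algebra.TensorProduct.comm A A' B).symm l) := by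
    intro l hl T _ _ φ ψ
    apply (Algebra.TensorProduct.comm A T B).injective
    let θ : C ⊗[B] C →ₐ[B] B ⊗[A] T := Algebra.TensorProduct.lift
      (Algebra.TensorProduct.map (AlgHom.id B B) φ) (Algebra.TensorProduct.map (AlgHom.id B B) ψ)
      (fun _ _ => Commute.all _ _)
    have h1 : (θ.restrictScalars A).comp (jl A B A') =
        (Algebra.TensorProduct.includeRight : T →ₐ[A] B ⊗[A] T).comp φ := by
      ext x
      simp [θ, jl]
      exact Algebra.TensorProduct.map_tmul _ _ _ _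
    have h2 : (θ.restrictScalars A).comp (jr A B A') =
        (Algebra.TensorProduct.includeRight : T →ₐ[A] B ⊗[A] T).comp ψ := by
      ext x
      simp [θ, jr]
      exact Algebra.TensorProduct.map_tmul _ _ _ _
    have h3 := congrArg θ ((mem_L _ _).1 hl)
    rw [map_mul, himg _ θ, h1, h2, ← hnat, ev_comm] at h3
    rw [map_mul, comm_mB, comm_mB, AlgEquiv.apply_symm_apply]
    have h4 : θ ((l : C) ⊗ₜ[B] (1 : C)) = Algebra.TensorProduct.map (AlgHom.id B B) φ (l : C) := by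
      simp [θ]
    have h5 : θ ((1 : C) ⊗ₜ[B] (l : C)) = Algebra.TensorProduct.map (AlgHom.id B B) ψ (l : C) := by
      simp [θ]
    rw [h4, h5] at h3
    exact h3
  -- the trivialisation over `K`
  let Φ : C →+* K' ⊗[A] B := (mB B i : A' ⊗[A] B →+* K' ⊗[A] B).comp
    ((Algebra.TensorProduct.comm A A' B).symm : C ≃ₐ[A] A' ⊗[A] B).toRingEquiv.toRingHom
  have hΦ : ∀ c : C, Φ c = mB B i ((Algebra.TensorProduct.comm A A' B).symm c) := fun c => rfl
  have hΦs : ∀ (b : B) (c : C), Φ (b • c) = ((1 : K') ⊗ₜ[A] b) * Φ c := by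
    intro b c
    rw [Algebra.smul_def, map_mul]
    congr 1
    rw [hΦ]
    change mB B i ((Algebra.TensorProduct.comm A A' B).symm (b ⊗ₜ[A] 1)) = _
    simp
  have hdesc : ∀ l : L (u₀ : C ⊗[B] C), ∃ w : K ⊗[A] B, mB B (IsScalarTower.toAlgHom A K K') w * (ν : K' ⊗[A] B) =
      Φ (l : C) := by
    intro l
    obtain ⟨w, hw⟩ := exists_of_eq_tower (A := A) (B := B) (R := K) (R' := K')
      (Φ (l : C) * ((ν⁻¹ : (K' ⊗[A] B)ˣ) : K' ⊗[A] B)) (by
        have hk := key l l.2 (K' ⊗[K] K') ((t1 A K K').comp i) ((t2 A K K').comp i)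
        rw [← mB_comp, ← mB_comp, ← hΦ] at hk
        have e1 : mB B (t1 A K K') (ν : K' ⊗[A] B) * mB B (t1 A K K') ((ν⁻¹ : (K' ⊗[A] B)ˣ) : K' ⊗[A] B) = 1 := by
          rw [← map_mul, Units.mul_inv, map_one]
        have e2 : mB B (t2 A K K') (ν : K' ⊗[A] B) * mB B (t2 A K K') ((ν⁻¹ : (K' ⊗[A] B)ˣ) : K' ⊗[A] B) = 1 := by
          rw [← map_mul, Units.mul_inv, map_one]
        rw [map_mul, map_mul, ← hk]
        rw [← hν] at e2
        linear_combination (- mB B (t1 A K K') (Φ (l : C)) * mB B (t1 A K K') ((ν⁻¹ : (K' ⊗[A] B)ˣ) : K' ⊗[A] B)) * e2 +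
          (mB B (t1 A K K') (Φ (l : C)) * (u (K' ⊗[K] K') ((t1 A K K').comp i) ((t2 A K K').comp i) :
            (K' ⊗[K] K') ⊗[A] B) * mB B (t2 A K K') ((ν⁻¹ : (K' ⊗[A] B)ˣ) : K' ⊗[A] B)) * e1)
    refine ⟨w, ?_⟩
    rw [hw, mul_assoc, Units.inv_mul, mul_one]
  have huniq : ∀ w w' : K ⊗[A] B, mB B (IsScalarTower.toAlgHom A K K') w * (ν : K' ⊗[A] B) =
      mB B (IsScalarTower.toAlgHom A K K') w' * (ν : K' ⊗[A] B) → w = w' := by
    intro w w' h
    exact injective_tower (A := A) (R := K) (R' := K') (ν.isUnit.mul_right_cancel h)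
  choose p hp using hdesc
  let ψ : L (u₀ : C ⊗[B] C) →+ K ⊗[A] B :=
    { toFun := p
      map_zero' := huniq _ _ (by rw [hp, ZeroMemClass.coe_zero, map_zero, map_zero, zero_mul])
      map_add' := fun x y => huniq _ _ (by rw [hp, Submodule.coe_add, map_add, map_add, add_mul, hp, hp]) }
  have hψ : ∀ l, mB B (IsScalarTower.toAlgHom A K K') (ψ l) * (ν : K' ⊗[A] B) = Φ (l : C) := hp
  have hψs : ∀ (b : B) (l : L (u₀ : C ⊗[B] C)), ψ (b • l) =
      ((Algebra.TensorProduct.includeRight : B →ₐ[A] K ⊗[A] B) : B →+* K ⊗[A] B) b * ψ l := by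
    intro b l
    apply huniq
    rw [hψ, map_mul, mul_assoc, hψ, Submodule.coe_smul, hΦs]
    congr 1
    change _ = mB B (IsScalarTower.toAlgHom A K K') (1 ⊗ₜ[A] b)
    simp
  -- the image contains `1`
  have hone : ∃ l, ψ l = 1 := by
    let I : Ideal (K ⊗[A] B) := Ideal.span (Set.range ψ)
    have hI : I = ⊤ := by
      apply eq_top_of_map (K' := K')
      obtain ⟨x, hx⟩ := (mulL_bijective u₀ hc).2 1
      have h1 : ∀ x : L (u₀ : C ⊗[B] C) ⊗[B] C, Φ (mulL (u₀ : C ⊗[B] C) x) ∈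
          I.map (mB B (IsScalarTower.toAlgHom A K K') : K ⊗[A] B →+* K' ⊗[A] B) := by
        intro x
        induction x with
        | zero => rw [map_zero, map_zero]; exact Ideal.zero_mem _
        | add a b ha hb => rw [map_add, map_add]; exact Ideal.add_mem _ ha hb
        | tmul l c =>
          rw [mulL_tmul, map_mul, ← hψ]
          refine Ideal.mul_mem_right _ _ (Ideal.mul_mem_right _ _ ?_)
          exact Ideal.mem_map_of_mem (mB B (IsScalarTower.toAlgHom A K K') : K ⊗[A] B →+* K' ⊗[A] B)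
            (Ideal.subset_span ⟨l, rfl⟩)
      have h2 := h1 x
      rwa [hx, map_one] at h2
    have h0 : ∀ z : K ⊗[A] B, z ∈ Submodule.span (K ⊗[A] B) (Set.range ψ) → ∃ l, ψ l = z := by
     intro z h1
     induction h1 using Submodule.span_induction with
     | mem x hx => exact hx
     | zero => exact ⟨0, map_zero _⟩
     | add x y _ _ hx hy =>
      obtain ⟨b, rfl⟩ := hx
      obtain ⟨b', rfl⟩ := hy
      exact ⟨b + b', map_add _ _ _⟩
     | smul a x _ hx =>
      obtain ⟨b, rfl⟩ := hx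
      obtain ⟨a, rfl⟩ := includeRight_surjective (A := A) (B := B) hK a
      exact ⟨a • b, hψs a b⟩
    apply h0
    change (1 : K ⊗[A] B) ∈ I
    rw [hI]
    trivial
  obtain ⟨p₀, hp₀⟩ := hone
  have hinv := invertible_L u₀ hc
  obtain ⟨e, he⟩ := hPL (L (u₀ : C ⊗[B] C)) ψ hψs p₀ hp₀
  obtain ⟨v, hv⟩ := dvd_of_forall u₀ hc 1 (e : C) (by
    intro l hl
    obtain ⟨b, hb⟩ := he.2 ⟨l, hl⟩
    refine ⟨b, ?_⟩
    rw [one_smul]
    exact (congrArg Subtype.val hb).symm)
  rw [map_one] at hv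
  let w : Cˣ := Units.mkOfMulEqOne _ _ hv.symm
  let d : (A' ⊗[A] B)ˣ := Units.map (Algebra.TensorProduct.comm A A' B).symm.toRingEquiv.toRingHom.toMonoidHom w
  exact ⟨d, fun T _ _ φ ψ => key e e.2 T φ ψ⟩

end unit

section retr

variable {A B : Type u} [CommRing A] [CommRing B] [Algebra A B] {G : Type} [Group G]
    [MulSemiringAction G B] [SMulCommClass G A B]
    {M : Over (Spec (CommRingCat.of A))} [GrpObj M] {Λ : Type} [AddCommGroup Λ] [DistribMulAction G Λ]
    {A' : Type u} [CommRing A'] [Algebra A A']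

/-- `E D c → Λ` is surjective when `c` is a coboundary over `K` and trivialisations lift. -/
theorem exists_mem_pl (D : K965.Dict A B G M Λ) (c : Fam M A') [Module.FaithfullyFlat A A'] [Module.Flat A B]
    (K : Type u) [CommRing K] [Algebra A K] (hK : Function.Surjective (algebraMap A K))
    (hPL : PL (fun b : B => (1 : K) ⊗ₜ[A] b))
    (R' : Type u) [CommRing R'] [Algebra K R'] [Algebra A R'] [IsScalarTower A K R'] [Module.FaithfullyFlat K R']
    (i : A' →ₐ[A] R') (n : sp (algebraMap A R') ⟶ M)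
    (hn : c.c (R' ⊗[K] R') ((t1 A K R').comp i) ((t2 A K R').comp i) = (ap (t2 A K R') ≫ n) / (ap (t1 A K R') ≫ n))
    (m : Λ) : ∃ d, (m, d) ∈ E D c := by
  obtain ⟨d, hd⟩ := exists_unit_pl (B := B) (A' := A')
    (fun T _ _ φ ψ => (D.ch T (c.c T φ ψ) m).toMul)
    (by
      intro T T' _ _ _ _ θ φ ψ
      have h1 := ch_nat' D θ (c.c T φ ψ) m
      rw [c.nat] at h1
      exact h1.symm)
    (by
      intro T _ _ φ ψ χ
      have h1 := D.ch_mul T (c.c T ψ χ) (c.c T φ ψ)
      rw [c.mul] at h1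
      have h2 := congrArg vl (DFunLike.congr_fun h1 m)
      rw [AddMonoidHom.add_apply, vl_add] at h2
      exact (mul_comm _ _).trans h2.symm) K hK hPL R' i (D.ch R' n m).toMul (by
      change vl (D.ch (R' ⊗[K] R') (c.c _ _ _) m) * mB B (t1 A K R') (vl (D.ch R' n m)) =
        mB B (t2 A K R') (vl (D.ch R' n m))
      rw [hn, ch_div, ← ch_nat', ← ch_nat', ← vl_add, sub_add_cancel])
  exact ⟨Additive.ofMul d, fun T _ _ φ ψ => hd T φ ψ⟩

/-- **Splitting criterion**: an equivariant retraction `E → Bˣ` makes the family a coboundary. -/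
theorem exists_point_of_retraction' (D : K965.Dict A B G M Λ) (c : Fam M A') [Module.FaithfullyFlat A A']
    (hE : ∀ m, ∃ d, (m, d) ∈ E D c) (ret : E D c →+ Additive Bˣ)
    (hret : ∀ b, ret ⟨(0, ib A A' b), ib_mem_E D c b⟩ = b)
    (heq : ∀ (g : G) (z : E D c), vl (ret ⟨_, smul_mem_E z.2 g⟩) = g • vl (ret z)) :
    ∃ n : sp (algebraMap A A') ⟶ M, ∀ (T : Type u) [CommRing T] [Algebra A T] (φ ψ : A' →ₐ[A] T),
      c.c T φ ψ = (ap ψ ≫ n) / (ap φ ≫ n) := by
  choose d hd using hE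
  let v : E D c →+ Additive (A' ⊗[A] B)ˣ :=
    ((AddMonoidHom.snd _ _).comp (E D c).subtype) - (ib A A').comp ret
  have hv : ∀ z : E D c, v z = z.1.2 - ib A A' (ret z) := fun z => rfl
  have hv0 : ∀ z : E D c, z.1.1 = 0 → v z = 0 := by
    rintro ⟨⟨m, d⟩, h⟩ hm
    change m = 0 at hm
    subst hm
    obtain ⟨b, rfl⟩ := exists_of_mem_zero h
    rw [hv, hret, sub_self]
  have hv1 : ∀ z z' : E D c, z.1.1 = z'.1.1 → v z = v z' := by
    intro z z' h
    rw [← sub_eq_zero, ← map_sub]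
    apply hv0
    rw [AddSubgroup.coe_sub, Prod.fst_sub, h, sub_self]
  let χ : Λ →+ Additive (A' ⊗[A] B)ˣ :=
    { toFun := fun m => v ⟨(m, d m), hd m⟩
      map_zero' := hv0 _ rfl
      map_add' := fun m m' => by
        rw [← map_add]
        exact hv1 _ _ rfl }
  have hχ : ∀ z : E D c, χ z.1.1 = v z := fun z => hv1 _ _ rfl
  obtain ⟨n, hn⟩ := D.ch_surj A' χ (by
    intro g m
    have h1 := hχ ⟨_, smul_mem_E (hd m) g⟩
    change χ (g • m) = _ at h1
    change vl (χ (g • m)) = act A B A' g (vl (χ m))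
    have h2 : act A B A' g (vl (χ m)) = vl (ua A B A' g (χ m)) := rfl
    rw [h2, h1]
    congr 1
    change v _ = ua A B A' g (v ⟨(m, d m), hd m⟩)
    rw [hv, hv, map_sub]
    congr 1
    apply addUnits_ext
    rw [vl_ua, vl_ib, vl_ib, act_tmul, heq g ⟨(m, d m), hd m⟩])
  refine ⟨n, fun T _ _ φ ψ => ?_⟩
  apply D.ch_inj
  ext1 m
  rw [ch_div]
  apply addUnits_ext
  have h1 := hd m T φ ψ
  change vl (D.ch T (c.c T φ ψ) m) * mB B φ (vl (d m)) = mB B ψ (vl (d m)) at h1
  have h2 : D.ch A' n m = d m - ib A A' (ret ⟨(m, d m), hd m⟩) := by rw [hn]; rfl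
  have h3 : ∀ φ : A' →ₐ[A] T, vl (D.ch T (ap φ ≫ n) m) * (1 ⊗ₜ[A] vl (ret ⟨(m, d m), hd m⟩)) =
      mB B φ (vl (d m)) := by
    intro φ
    rw [ch_nat']
    have h4 : (1 : T) ⊗ₜ[A] vl (ret ⟨(m, d m), hd m⟩) = mB B φ (vl (ib A A' (ret ⟨(m, d m), hd m⟩))) := by
      rw [vl_ib]; simp
    rw [h4, ← map_mul, ← vl_add, h2, sub_add_cancel]
  have hu : IsUnit ((1 : T) ⊗ₜ[A] vl (ret ⟨(m, d m), hd m⟩)) :=
    (ib A T (ret ⟨(m, d m), hd m⟩)).toMul.isUnit
  have h5 : vl (D.ch T (c.c T φ ψ) m) * vl (D.ch T (ap φ ≫ n) m) = vl (D.ch T (ap ψ ≫ n) m) := by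
    apply hu.mul_right_cancel
    rw [mul_assoc, h3, h3, h1]
  rw [← vl_add] at h5
  have h6 := addUnits_ext h5
  rw [← h6, add_sub_cancel_right]

/-- Comparison with the `A`-algebra `K`: `c` becomes a coboundary over `K`. -/
theorem exists_point_of_retr' (D : K965.Dict A B G M Λ) (c : Fam M A') [Module.FaithfullyFlat A A'] [Module.Flat A B]
    (hE : ∀ m, ∃ d, (m, d) ∈ E D c) (K : Type u) [CommRing K] [Algebra A K] (R' : Type u) [CommRing R']
    [Algebra K R'] [Algebra A R'] [IsScalarTower A K R'] [Module.FaithfullyFlat K R'] (i : A' →ₐ[A] R')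
    (n : sp (algebraMap A R') ⟶ M)
    (hn : c.c (R' ⊗[K] R') ((t1 A K R').comp i) ((t2 A K R').comp i) = (ap (t2 A K R') ≫ n) / (ap (t1 A K R') ≫ n))
    (r : Additive (K ⊗[A] B)ˣ →+ Additive Bˣ) (hr : ∀ b, r (ib A K b) = b)
    (hr' : ∀ (g : G) (z : Additive (K ⊗[A] B)ˣ), vl (r (ua A B K g z)) = g • vl (r z)) :
    ∃ n : sp (algebraMap A A') ⟶ M, ∀ (T : Type u) [CommRing T] [Algebra A T] (φ ψ : A' →ₐ[A] T),
      c.c T φ ψ = (ap ψ ≫ n) / (ap φ ≫ n) := by
  let j : K ⊗[A] B →+* R' ⊗[A] B := mB B (IsScalarTower.toAlgHom A K R')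
  have hj : Function.Injective (um j) := by
    intro x y hxy
    apply addUnits_ext
    exact injective_tower (A := A) (B := B) (R := K) (R' := R') (congrArg vl hxy)
  let e : E D c →+ Additive (R' ⊗[A] B)ˣ :=
    (um (mB B i : A' ⊗[A] B →+* R' ⊗[A] B)).comp ((AddMonoidHom.snd _ _).comp (E D c).subtype) -
      (D.ch R' n).comp ((AddMonoidHom.fst _ _).comp (E D c).subtype)
  have he : ∀ z : E D c, e z = um (mB B i : A' ⊗[A] B →+* R' ⊗[A] B) z.1.2 - D.ch R' n z.1.1 := fun z => rfl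
  have he' : ∀ z : E D c, vl (e z) * vl (D.ch R' n z.1.1) = mB B i (vl z.1.2) := by
    intro z
    rw [← vl_add, he, sub_add_cancel, vl_um]
    rfl
  have hl : ∀ z : E D c, ∃ w : Additive (K ⊗[A] B)ˣ, um j w = e z := by
    intro z
    apply exists_unit_of_eq_tower
    have h1 := z.2 (R' ⊗[K] R') ((t1 A K R').comp i) ((t2 A K R').comp i)
    rw [hn, ch_div] at h1
    have h2 : vl (D.ch (R' ⊗[K] R') (ap (t2 A K R') ≫ n) z.1.1 - D.ch (R' ⊗[K] R') (ap (t1 A K R') ≫ n) z.1.1) *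
        mB B (t1 A K R') (vl (D.ch R' n z.1.1)) = mB B (t2 A K R') (vl (D.ch R' n z.1.1)) := by
      rw [← ch_nat', ← ch_nat', ← vl_add, sub_add_cancel]
    rw [← mB_comp, ← mB_comp, ← he', map_mul, map_mul, ← h2] at h1
    have hu1 : IsUnit (mB B (t1 A K R') (vl (D.ch R' n z.1.1))) := (D.ch R' n z.1.1).toMul.isUnit.map _
    have hu2 : IsUnit (vl (D.ch (R' ⊗[K] R') (ap (t2 A K R') ≫ n) z.1.1 -
        D.ch (R' ⊗[K] R') (ap (t1 A K R') ≫ n) z.1.1)) := Units.isUnit _
    apply (hu2.mul hu1).mul_right_cancel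
    rw [← h1]
    ring
  choose l hl using hl
  let L : E D c →+ Additive (K ⊗[A] B)ˣ :=
    { toFun := l
      map_zero' := hj (by rw [hl, map_zero, map_zero])
      map_add' := fun x y => hj (by rw [hl, map_add, map_add, hl, hl]) }
  have hL : ∀ z, um j (L z) = e z := hl
  refine exists_point_of_retraction' D c hE (r.comp L) ?_ ?_
  · intro b
    rw [AddMonoidHom.comp_apply]
    have h1 : L ⟨(0, ib A A' b), ib_mem_E D c b⟩ = ib A K b := by
      apply hj
      rw [hL, he]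
      apply addUnits_ext
      change vl (_ - D.ch R' n 0) = _
      rw [map_zero, sub_zero]
      change mB B i (1 ⊗ₜ[A] vl b) = mB B _ (1 ⊗ₜ[A] vl b)
      simp
    rw [h1, hr]
  · intro g z
    rw [AddMonoidHom.comp_apply, AddMonoidHom.comp_apply, ← hr']
    congr 2
    apply hj
    rw [hL]
    have h1 : um j (ua A B K g (L z)) = ua A B R' g (um j (L z)) := addUnits_ext (by
      rw [vl_um, vl_ua, vl_ua, vl_um]
      exact map_act _ g _)
    rw [h1, hL, he, he, map_sub]
    congr 1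
    · apply addUnits_ext
      rw [vl_um]
      exact map_act i g _
    · apply addUnits_ext
      rw [vl_ua]
      exact D.ch_smul R' n g z.1.1

/-- A cocycle which is a coboundary over the quotient `K` is a coboundary, when there is an equivariant ring map
`K ⊗ B → B` which is a retraction on units and trivialisations of line bundles lift along `B → K ⊗ B`. -/
theorem exists_point_of_ringRetr (D : K965.Dict A B G M Λ) (c : Fam M A') [Module.FaithfullyFlat A A']
    [Module.Flat A B] (K : Type u) [CommRing K] [Algebra A K] (hK : Function.Surjective (algebraMap A K))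
    (hPL : PL (fun b : B => (1 : K) ⊗ₜ[A] b))
    (ρ : K ⊗[A] B →+* B) (hρ : ∀ b : Bˣ, ρ (1 ⊗ₜ (b : B)) = b) (hρ' : ∀ (g : G) z, ρ (act A B K g z) = g • ρ z)
    (R' : Type u) [CommRing R'] [Algebra K R'] [Algebra A R'] [IsScalarTower A K R'] [Module.FaithfullyFlat K R']
    (i : A' →ₐ[A] R') (n : sp (algebraMap A R') ⟶ M)
    (hn : c.c (R' ⊗[K] R') ((t1 A K R').comp i) ((t2 A K R').comp i) =
      (ap (t2 A K R') ≫ n) / (ap (t1 A K R') ≫ n)) :
    ∃ n : sp (algebraMap A A') ⟶ M, ∀ (T : Type u) [CommRing T] [Algebra A T] (φ ψ : A' →ₐ[A] T),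
      c.c T φ ψ = (ap ψ ≫ n) / (ap φ ≫ n) :=
  exists_point_of_retr' D c (exists_mem_pl D c K hK hPL R' i n hn) K R' i n hn (um ρ)
    (fun b => addUnits_ext (by rw [vl_um, vl_ib]; exact hρ _))
    (fun g z => by rw [vl_um, vl_um, vl_ua, hρ'])

end retr

end K832.PicLift
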