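import Groth.Agent.MultTori.K832.PicLift
import Groth.Agent.MultTori.K832.BcSec
import Groth.Agent.MultTori.K964.BcCl
import Groth.Agent.MultTori.K964.DictBc
import Groth.Agent.Sga7.H598.PicPoly

/-!
# Torsors over the affine line which agree at the origin

For `A → B` Galois with `B` a seminormal Noetherian domain and `M` a group of multiplicative type over `A` split by
`B`: the map `H¹(A[X], M) → H¹(A, M)`, `X ↦ 0`, is injective.
-/

set_option autoImplicit false
universe u

open CategoryTheory CategoryTheory.Limits MonoidalCategory CartesianMonoidalCategory AlgebraicGeometry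
open TensorProduct Polynomial

namespace K832.PolyH1

open K965.Gal K964.UC K964.CharExt K964.AffPt K964.AffYon K964.Pt K964.TorsY K964.Cocyc K964.ExtE K964.Desc
  K964.BcPt K964.BcCl K964.DictBc K832.PicLift
open K965.Pts (sp mp)
open Groth.Agent.Sga7.H598.SNDef Groth.Agent.Sga7.H598.PicPoly
open scoped MonObj GrpObj

attribute [local instance] actBc commBc

section ring

variable (A B : Type u) [CommRing A] [CommRing B] [Algebra A B]

/-- `B[X] ≃ A[X] ⊗ B` -/
noncomputable def Th : B[X] ≃+* A[X] ⊗[A] B :=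
  ((polyEquivTensor A B).trans (Algebra.TensorProduct.comm A B A[X])).toRingEquiv

variable {A B}

lemma Th_C (b : B) : Th A B (C b) = 1 ⊗ₜ[A] b := by
  change (Algebra.TensorProduct.comm A B A[X]) (polyEquivTensor A B (C b)) = _
  rw [polyEquivTensor_apply]
  simp

lemma Th_symm_tmul (p : A[X]) (b : B) : (Th A B).symm (p ⊗ₜ[A] b) = C b * p.map (algebraMap A B) := by
  change (polyEquivTensor A B).symm ((Algebra.TensorProduct.comm A B A[X]).symm (p ⊗ₜ[A] b)) = _
  rw [Algebra.TensorProduct.comm_symm_tmul, polyEquivTensor_symm_apply_tmul_eq_smul, smul_eq_C_mul]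

variable (A B) in
/-- evaluation at the origin -/
noncomputable def ev0 : A[X] ⊗[A] B →+* B := (constantCoeff : B[X] →+* B).comp (Th A B).symm.toRingHom

lemma ev0_apply (z : A[X] ⊗[A] B) : ev0 A B z = ((Th A B).symm z).coeff 0 := rfl

@[simp] lemma ev0_tmul (p : A[X]) (b : B) : ev0 A B (p ⊗ₜ[A] b) = algebraMap A B (p.coeff 0) * b := by
  rw [ev0_apply, Th_symm_tmul, coeff_C_mul, coeff_map, mul_comm]

/-- units are constant -/
lemma eq_of_isUnit [IsDomain B] (z : A[X] ⊗[A] B) (hz : IsUnit z) : 1 ⊗ₜ[A] (ev0 A B z) = z := by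
  have h1 : IsUnit ((Th A B).symm z) := hz.map (Th A B).symm
  obtain ⟨b, -, hb⟩ := Polynomial.isUnit_iff.1 h1
  have h2 : z = Th A B (C b) := by rw [hb, RingEquiv.apply_symm_apply]
  rw [ev0_apply, ← hb, coeff_C_zero, h2, Th_C]

end ring

section spec

variable {A B : Type u} [CommRing A] [CommRing B] [Algebra A B]
  (K : Type u) [CommRing K] [Algebra A K] [Algebra A[X] K] [IsScalarTower A A[X] K]

/-- the algebra structure of `B` through `X ↦ 0` -/
@[reducible] noncomputable def algB (A B : Type u) [CommRing A] [CommRing B] [Algebra A B] : Algebra A[X] B :=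
  ((algebraMap A B).comp (constantCoeff : A[X] →+* A)).toAlgebra

variable (hK : Function.Bijective (algebraMap A K)) (hX : algebraMap A[X] K X = 0)

include hX in
omit hX in
lemma algebraMap_eq (hX : algebraMap A[X] K X = 0) (p : A[X]) : algebraMap A[X] K p = algebraMap A K (p.coeff 0) := by
  conv_lhs => rw [← divX_mul_X_add p]
  rw [map_add, map_mul, hX, mul_zero, zero_add, IsScalarTower.algebraMap_apply A A[X] K]
  rfl

include hK hX in
/-- the ring map `K ⊗ (A[X] ⊗ B) → B` -/
theorem exists_sigma : ∃ σ : K ⊗[A[X]] (A[X] ⊗[A] B) →+* B,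
    (∀ (a : A) (z : A[X] ⊗[A] B), σ (algebraMap A K a ⊗ₜ z) = algebraMap A B a * ev0 A B z) := by
  let _ : Algebra A[X] B := algB A B
  have hal : ∀ p : A[X], algebraMap A[X] B p = algebraMap A B (p.coeff 0) := fun p => rfl
  let e : A ≃+* K := RingEquiv.ofBijective (algebraMap A K) hK
  have he : ∀ a, e.symm (algebraMap A K a) = a := fun a => e.symm_apply_apply a
  let f : K →ₐ[A[X]] B :=
    { ((algebraMap A B).comp e.symm.toRingHom) with
      commutes' := fun p => by
        change algebraMap A B (e.symm (algebraMap A[X] K p)) = _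
        rw [algebraMap_eq K hX, he, hal] }
  have hf : ∀ a, f (algebraMap A K a) = algebraMap A B a := fun a => congrArg (algebraMap A B) (he a)
  let g : A[X] ⊗[A] B →ₐ[A[X]] B :=
    { ev0 A B with
      commutes' := fun p => by
        change ev0 A B (p ⊗ₜ[A] 1) = _
        rw [ev0_tmul, mul_one, hal] }
  refine ⟨(Algebra.TensorProduct.lift f g (fun _ _ => Commute.all _ _)).toRingHom, ?_⟩
  intro a z
  change Algebra.TensorProduct.lift f g _ (algebraMap A K a ⊗ₜ z) = _
  rw [Algebra.TensorProduct.lift_tmul, hf]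
  rfl

end spec

section main

variable {A B : Type u} [CommRing A] [CommRing B] [Algebra A B] {G : Type} [Group G]
    [MulSemiringAction G B] [SMulCommClass G A B]
    {M : Over (Spec (CommRingCat.of A))} [GrpObj M] {Λ : Type} [AddCommGroup Λ] [DistribMulAction G Λ]

/-- **Torsors over the affine line which agree at the origin are isomorphic.** -/
theorem bcMap_injective (D : K965.Dict A B G M Λ) [IsCommMonObj M] [Module.Flat A B] [IsDomain B]
    [IsNoetherianRing B] (hB : SN B) (K : Type u) [CommRing K] [Algebra A K] [Algebra A[X] K]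
    [IsScalarTower A A[X] K] (hK : Function.Bijective (algebraMap A K)) (hX : algebraMap A[X] K X = 0) :
    Function.Injective (NonAbH1.H1Sch.bcMap (tb A[X] K) (Red.bc (tb A A[X]) M) Scheme.fppfPrecoverage) := by
  obtain ⟨σ, hσ⟩ := exists_sigma (B := B) K hK hX
  have hσ1 : ∀ z : A[X] ⊗[A] B, σ (1 ⊗ₜ z) = ev0 A B z := by
    intro z
    have h1 := hσ 1 z
    rwa [map_one, map_one, one_mul] at h1
  let ρ : K ⊗[A[X]] (A[X] ⊗[A] B) →+* A[X] ⊗[A] B :=
    ((Algebra.TensorProduct.includeRight : B →ₐ[A] A[X] ⊗[A] B) : B →+* A[X] ⊗[A] B).comp σ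
  have hρ0 : ∀ z, ρ z = 1 ⊗ₜ[A] σ z := fun z => rfl
  have hρ : ∀ b : (A[X] ⊗[A] B)ˣ, ρ (1 ⊗ₜ (b : A[X] ⊗[A] B)) = b := by
    intro b
    rw [hρ0, hσ1, eq_of_isUnit _ b.isUnit]
  have hev : ∀ (g : G) (z : A[X] ⊗[A] B), ev0 A B (g • z) = g • ev0 A B z := by
    intro g z
    rw [smul_eq]
    induction z using TensorProduct.induction_on with
    | zero => simp
    | tmul p b => rw [act_tmul, ev0_tmul, ev0_tmul, smul_mul', smul_algebraMap]
    | add x y hx hy => rw [map_add, map_add, hx, hy, map_add, smul_add]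
  have hρ' : ∀ (g : G) z, ρ (act A[X] (A[X] ⊗[A] B) K g z) = g • ρ z := by
    intro g z
    induction z using TensorProduct.induction_on with
    | zero => rw [map_zero, map_zero, smul_zero]
    | tmul k z =>
      obtain ⟨a, rfl⟩ := hK.2 k
      rw [act_tmul, hρ0, hρ0, hσ, hσ, hev, smul_eq, act_tmul, smul_mul', smul_algebraMap]
    | add x y hx hy => rw [map_add, map_add, hx, hy, map_add, smul_add]
  have hPL : PL (fun b : A[X] ⊗[A] B => (1 : K) ⊗ₜ[A[X]] b) := by
    intro P _ _ _ ψ hψ p₀ hp₀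
    obtain ⟨e, -, he⟩ := exists_generator_of_equiv hB (Th A B) (σ.toAddMonoidHom.comp ψ)
      (by
        intro b p
        change σ (ψ (b • p)) = ev0 A B b * σ (ψ p)
        rw [hψ, map_mul]
        congr 1
        exact hσ1 b) p₀ (by
        change σ (ψ p₀) = 1
        rw [hp₀, map_one])
    exact ⟨e, he⟩
  intro c c' h
  obtain ⟨P, rfl⟩ := exists_cl c
  obtain ⟨Q, rfl⟩ := exists_cl c'
  obtain ⟨R', _, _, hff, hfp, ⟨x⟩, ⟨y⟩⟩ := exists_common_point P Q
  obtain ⟨n, hn⟩ := exists_of_bc x y K h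
  have hKs : Function.Surjective (algebraMap A[X] K) := by
    intro k
    obtain ⟨a, rfl⟩ := hK.2 k
    exact ⟨C a, (IsScalarTower.algebraMap_apply A A[X] K a).symm⟩
  obtain ⟨m, hm⟩ := exists_point_of_ringRetr (K964.DictBc.bc D A[X])
    (Fam.div (K964.DictBc.bc D A[X]) (famOf P.isTorsor.1 x) (famOf Q.isTorsor.1 y)) K hKs hPL ρ hρ hρ'
    (K ⊗[A[X]] R') Algebra.TensorProduct.includeRight n hn
  rw [cl_eq_iff_ring x y]
  exact ⟨m, hm _ _ _⟩

/-- **Homotopy invariance** of `H¹` of groups of multiplicative type over `A` split by `B`. -/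
theorem bcMap_bijective (D : K965.Dict A B G M Λ) [IsCommMonObj M] [Module.Flat A B] [IsDomain B]
    [IsNoetherianRing B] (hB : SN B) :
    Function.Bijective (NonAbH1.H1Sch.bcMap (Spec.map (CommRingCat.ofHom (Polynomial.C : A →+* Polynomial A))) M
        Scheme.fppfPrecoverage) := by
  let _ : Algebra A[X] A := (constantCoeff : A[X] →+* A).toAlgebra
  have hal : ∀ p : A[X], algebraMap A[X] A p = p.coeff 0 := fun p => rfl
  have : IsScalarTower A A[X] A := IsScalarTower.of_algebraMap_eq fun a => by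
    change a = (C a : A[X]).coeff 0
    rw [coeff_C_zero]
  let f : Spec (CommRingCat.of A[X]) ⟶ Spec (CommRingCat.of A) := tb A A[X]
  let g : Spec (CommRingCat.of A) ⟶ Spec (CommRingCat.of A[X]) := tb A[X] A
  have hgf : g ≫ f = 𝟙 _ := by
    rw [← Spec.map_comp, ← CommRingCat.ofHom_comp, ← IsScalarTower.algebraMap_eq A A[X] A]
    exact Spec.map_id _
  have key : Function.Injective (NonAbH1.H1Sch.bcMap g (Red.bc f M) Scheme.fppfPrecoverage) :=
    bcMap_injective D hB A (by exact Function.bijective_id) (by rw [hal, coeff_X_zero])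
  change Function.Bijective (NonAbH1.H1Sch.bcMap f M Scheme.fppfPrecoverage)
  refine ⟨BcSec.bcMap_injective f g hgf, fun c => ?_⟩
  obtain ⟨Q, rfl⟩ := exists_cl c
  obtain ⟨P, hP⟩ := BcSec.exists_bc_bc f g hgf (Q.bc g)
  exact ⟨P.cl, key hP⟩

end main

end K832.PolyH1
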