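import Groth.Agent.MultTori.K832.OpenGen
import Mathlib.RingTheory.TensorProduct.MvPolynomial
import Mathlib.Algebra.MvPolynomial.Nilpotent
import Mathlib.AlgebraicGeometry.AffineSpace

/-!
# Polynomial rings over a Galois extension of factorial domains
-/

set_option autoImplicit false
universe u

open TensorProduct MvPolynomial AlgebraicGeometry CategoryTheory

namespace K832.PolyH90

open K965.Gal K964.DictBc K964.DivSec K964.BcPt

attribute [local instance] actBc commBc

variable (A B : Type u) [CommRing A] [CommRing B] [Algebra A B] (σ : Type u)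

/-- `A[σ] ⊗ B ≃ B[σ]` -/
noncomputable def pe : MvPolynomial σ A ⊗[A] B ≃+* MvPolynomial σ B :=
  (Algebra.TensorProduct.comm A (MvPolynomial σ A) B).toRingEquiv.trans
    (MvPolynomial.algebraTensorAlgEquiv A B).toRingEquiv

variable {A B σ}

lemma pe_one_tmul (b : B) : pe A B σ (1 ⊗ₜ b) = C b := by
  change MvPolynomial.algebraTensorAlgEquiv A B ((Algebra.TensorProduct.comm A (MvPolynomial σ A) B) (1 ⊗ₜ b)) = _
  rw [Algebra.TensorProduct.comm_tmul, MvPolynomial.algebraTensorAlgEquiv_tmul, map_one, smul_eq_C_mul, mul_one]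

lemma one_tmul_injective : Function.Injective (fun b : B => (1 : MvPolynomial σ A) ⊗ₜ[A] b) := by
  intro b b' h
  have h1 := congrArg (pe A B σ) h
  beta_reduce at h1
  rw [pe_one_tmul, pe_one_tmul] at h1
  exact C_injective σ B h1

lemma exists_of_isUnit [IsDomain B] (z : MvPolynomial σ A ⊗[A] B) (hz : IsUnit z) :
    ∃ b : Bˣ, z = 1 ⊗ₜ (b : B) := by
  have h1 : IsUnit (pe A B σ z) := hz.map (pe A B σ)
  rw [MvPolynomial.isUnit_iff_eq_C_of_isReduced] at h1
  obtain ⟨r, hr, h⟩ := h1
  refine ⟨hr.unit, ?_⟩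
  apply (pe A B σ).injective
  rw [h, pe_one_tmul]
  rfl

theorem isDomain_poly [IsDomain B] : IsDomain (MvPolynomial σ A ⊗[A] B) :=
  MulEquiv.isDomain (MvPolynomial σ B) (pe A B σ).toMulEquiv

theorem ufd_poly [IsDomain B] [UniqueFactorizationMonoid B] :
    UniqueFactorizationMonoid (MvPolynomial σ A ⊗[A] B) :=
  MulEquiv.uniqueFactorizationMonoid (pe A B σ).symm.toMulEquiv inferInstance

theorem h90_poly {G : Type} [Group G] [MulSemiringAction G B] [SMulCommClass G A B] [IsDomain B] (h90 : H90P B G) :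
    H90P (MvPolynomial σ A ⊗[A] B) G := by
  intro D f hf
  choose b hb using fun d : D => exists_of_isUnit (A := A) (B := B) (σ := σ) (f d : MvPolynomial σ A ⊗[A] B) (f d).isUnit
  have hsm : ∀ (g : G) (b : B), g • ((1 : MvPolynomial σ A) ⊗ₜ[A] b) = 1 ⊗ₜ (g • b) := fun g b => by
    rw [smul_eq, act_tmul]
  obtain ⟨u, hu⟩ := h90 D b (by
    intro d e
    apply one_tmul_injective (A := A) (σ := σ)
    beta_reduce
    have h1 := hf d e
    rw [hb, hb, hb, hsm, Algebra.TensorProduct.tmul_mul_tmul, one_mul] at h1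
    exact h1)
  refine ⟨Units.map (Algebra.TensorProduct.includeRight : B →ₐ[A] MvPolynomial σ A ⊗[A] B).toRingHom.toMonoidHom u,
    fun d => ?_⟩
  change _ * (d : G) • ((1 : MvPolynomial σ A) ⊗ₜ[A] (u : B)) = 1 ⊗ₜ (u : B)
  rw [hb, hsm, Algebra.TensorProduct.tmul_mul_tmul, one_mul, hu d]

section geo

variable [IsDomain A] [Finite σ] [IsNoetherianRing A] (U : (𝔸(σ; Spec (CommRingCat.of A))).Opens)
  [IsIntegral (U : Scheme.{u})]

/-- the open immersion into the spectrum of the polynomial ring -/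
noncomputable def jU : (U : Scheme.{u}) ⟶ Spec (CommRingCat.of (MvPolynomial σ A)) :=
  U.ι ≫ (AffineSpace.SpecIso σ (CommRingCat.of A)).hom

instance : IsOpenImmersion (jU (A := A) (σ := σ) U) := by unfold jU; infer_instance

omit [IsDomain A] [Finite σ] [IsNoetherianRing A] [IsIntegral (U : Scheme.{u})] in
lemma jU_tb : jU U ≫ tb A (MvPolynomial σ A) = U.ι ≫ (𝔸(σ; Spec (CommRingCat.of A)) ↘ Spec (CommRingCat.of A)) := by
  have h1 := AffineSpace.SpecIso_inv_over (n := σ) (CommRingCat.of A)
  rw [Iso.inv_comp_eq] at h1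
  rw [h1, jU, Category.assoc]
  rfl

omit [IsIntegral (U : Scheme.{u})] [IsDomain A] in
lemma compact_U : CompactSpace (U : Scheme.{u}) := by
  have h1 : TopologicalSpace.NoetherianSpace (Spec (CommRingCat.of (MvPolynomial σ A))) :=
    inferInstanceAs (TopologicalSpace.NoetherianSpace (PrimeSpectrum (MvPolynomial σ A)))
  have h2 : TopologicalSpace.NoetherianSpace (U : Scheme.{u}) :=
    (jU (A := A) (σ := σ) U).isOpenEmbedding.isInducing.noetherianSpace
  infer_instance

end geo

end K832.PolyH90
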