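import Groth.Agent.MultTori.K832.UfdGlue
import Groth.Agent.MultTori.K964.DictBc
import Groth.Agent.MultTori.K964.Desc
import Mathlib.GroupTheory.MonoidLocalization.UniqueFactorization

/-!
# Families of points relative to a base `R` over `A`

`RFam N R A'`: natural multiplicative families of points of `N` (a group over `A`) indexed by pairs of `R`-algebra maps
from `A'`. `A'` is flat over `R` and covers an open subscheme of `Spec R`.
-/

set_option autoImplicit false
universe u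

open CategoryTheory CategoryTheory.Limits MonoidalCategory CartesianMonoidalCategory AlgebraicGeometry
open TensorProduct

namespace K832.RelFam

open K965.Gal K964.UC K964.CharExt K964.AffPt K964.AffYon K964.Pt K964.TorsY K964.Cocyc K964.ExtE K964.Desc
  K964.BcPt K964.DictBc K964.DivSec K832.UfdGlue
open K965.Pts (sp mp)
open scoped MonObj GrpObj

attribute [local instance] actBc commBc

section flat

variable (A B R A' : Type u) [CommRing A] [CommRing B] [Algebra A B] [CommRing R] [Algebra A R] [CommRing A']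
  [Algebra A A'] [Algebra R A'] [IsScalarTower A R A']

/-- `A' ⊗ B` as an algebra over `R ⊗ B` -/
@[reducible] noncomputable def algSC : Algebra (R ⊗[A] B) (A' ⊗[A] B) :=
  (mB B (IsScalarTower.toAlgHom A R A') : R ⊗[A] B →+* A' ⊗[A] B).toAlgebra

theorem flat_SC [Module.Flat R A'] : @Module.Flat (R ⊗[A] B) (A' ⊗[A] B) _ _ (algSC A B R A').toModule := by
  let _ := algSC A B R A'
  let e : (R ⊗[A] B) ⊗[R] A' ≃+* A' ⊗[A] B :=
    (Algebra.TensorProduct.comm R (R ⊗[A] B) A').toRingEquiv.trans (kap A B R A').symm.toRingEquiv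
  have he : ∀ s : R ⊗[A] B, e (s ⊗ₜ 1) = algebraMap (R ⊗[A] B) (A' ⊗[A] B) s := by
    intro s
    change (kap A B R A').symm (1 ⊗ₜ s) = mB B (IsScalarTower.toAlgHom A R A') s
    induction s using TensorProduct.induction_on with
    | zero => simp
    | tmul r b =>
      rw [kap_symm_tmul, Algebra.TensorProduct.map_tmul, Algebra.smul_def, mul_one]
      rfl
    | add x y hx hy => rw [TensorProduct.tmul_add, map_add, hx, hy, map_add]
  let e' : (R ⊗[A] B) ⊗[R] A' ≃ₗ[R ⊗[A] B] A' ⊗[A] B :=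
    { e with
      map_smul' := fun s x => by
        change e (s • x) = algebraMap (R ⊗[A] B) (A' ⊗[A] B) s * e x
        have h1 : s • x = (s ⊗ₜ 1) * x := Algebra.smul_def s x
        rw [h1, map_mul, ← he] }
  exact Module.Flat.of_linearEquiv e'.symm

variable {A B R A'}

lemma kap_symm_one_tmul (s : R ⊗[A] B) :
    (kap A B R A').symm ((1 : A') ⊗ₜ[R] s) = mB B (IsScalarTower.toAlgHom A R A') s := by
  induction s using TensorProduct.induction_on with
  | zero => simp
  | tmul r b =>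
    rw [kap_symm_tmul, Algebra.TensorProduct.map_tmul, Algebra.smul_def, mul_one]
    rfl
  | add x y hx hy => rw [TensorProduct.tmul_add, map_add, hx, hy, map_add]

/-- primes of `R ⊗ B` not containing `f₀` stay nonunits in `A' ⊗ B` -/
theorem not_isUnit_of_ff (f₀ : R)
    (hff : Module.FaithfullyFlat (Localization.Away f₀) (Localization.Away f₀ ⊗[R] A')) (p : R ⊗[A] B)
    (hp : Prime p) (hpf : ¬ p ∣ f₀ ⊗ₜ 1) : ¬ IsUnit (mB B (IsScalarTower.toAlgHom A R A') p) := by
  intro hu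
  let I : Ideal (R ⊗[A] B) := Ideal.span {p}
  let Q := (R ⊗[A] B) ⧸ I
  let _ : CommRing Q := inferInstanceAs (CommRing ((R ⊗[A] B) ⧸ I))
  have h1 : Subsingleton (A' ⊗[R] Q) := by
    have h2 : IsUnit ((1 : A') ⊗ₜ[R] p) := by
      rw [← kap_symm_one_tmul] at hu
      exact (isUnit_map_iff (kap A B R A').symm _).1 hu
    have h4 := h2.map (Algebra.TensorProduct.map (AlgHom.id R A') (Ideal.Quotient.mkₐ R I))
    rw [Algebra.TensorProduct.map_tmul] at h4
    have h5 : Ideal.Quotient.mkₐ R I p = 0 := Ideal.Quotient.eq_zero_iff_mem.2 (Ideal.subset_span rfl)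
    rw [h5, TensorProduct.tmul_zero] at h4
    exact subsingleton_of_zero_eq_one (isUnit_zero_iff.1 h4)
  let R₁ := Localization.Away f₀
  have h2 : Subsingleton (R₁ ⊗[R] (A' ⊗[R] Q)) := by
    refine ⟨fun x y => ?_⟩
    have h3 : ∀ z : R₁ ⊗[R] (A' ⊗[R] Q), z = 0 := by
      intro z
      induction z using TensorProduct.induction_on with
      | zero => rfl
      | tmul r b => rw [Subsingleton.elim b 0, TensorProduct.tmul_zero]
      | add x y hx hy => rw [hx, hy, add_zero]
    rw [h3 x, h3 y]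
  have h3 : Subsingleton ((R₁ ⊗[R] A') ⊗[R₁] (R₁ ⊗[R] Q)) :=
    (TensorProduct.AlgebraTensorModule.distribBaseChange R R₁ A' Q).symm.injective.subsingleton
  have h4 : Subsingleton (R₁ ⊗[R] Q) := Module.FaithfullyFlat.lTensor_reflects_triviality R₁ (R₁ ⊗[R] A') _
  have h5 : Subsingleton (LocalizedModule (Submonoid.powers f₀) Q) :=
    (LocalizedModule.equivTensorProduct (Submonoid.powers f₀) Q).injective.subsingleton
  rw [LocalizedModule.subsingleton_iff] at h5
  obtain ⟨_, ⟨k, rfl⟩, hk⟩ := h5 (1 : Q)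
  have h6 : (f₀ ^ k) • (1 : Q) = Ideal.Quotient.mkₐ R I ((f₀ ⊗ₜ 1) ^ k) := by
    rw [Algebra.smul_def, mul_one, ← (Ideal.Quotient.mkₐ R I).commutes, map_pow, map_pow]
    rfl
  have h7 : Ideal.Quotient.mk I ((f₀ ⊗ₜ 1) ^ k) = 0 := h6.symm.trans hk
  rw [Ideal.Quotient.eq_zero_iff_mem, Ideal.mem_span_singleton] at h7
  exact hpf (hp.dvd_of_dvd_pow h7)

/-- denominators -/
theorem exists_denom (f₀ : R) (R₁ : Type u) [CommRing R₁] [Algebra R R₁] [Algebra A R₁] [IsScalarTower A R R₁]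
    [IsLocalization.Away f₀ R₁] (z : (R₁ ⊗[R] A') ⊗[A] B) : ∃ (M : ℕ) (D : A' ⊗[A] B),
    mB B ((Algebra.TensorProduct.includeRight : A' →ₐ[R] R₁ ⊗[R] A').restrictScalars A) D =
      ((algebraMap R R₁ f₀ ⊗ₜ[R] 1) ⊗ₜ[A] 1) ^ M * z := by
  let F₁ : (R₁ ⊗[R] A') ⊗[A] B := (algebraMap R R₁ f₀ ⊗ₜ[R] 1) ⊗ₜ[A] 1
  have key : ∀ a : R₁ ⊗[R] A', ∃ (M : ℕ) (d : A'), (1 : R₁) ⊗ₜ[R] d = (algebraMap R R₁ f₀ ⊗ₜ[R] 1) ^ M * a := by
    intro a
    induction a using TensorProduct.induction_on with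
    | zero => exact ⟨0, 0, by simp⟩
    | tmul r a =>
      obtain ⟨M, x, hx⟩ := IsLocalization.Away.surj f₀ r
      refine ⟨M, x • a, ?_⟩
      rw [Algebra.TensorProduct.tmul_pow, one_pow, Algebra.TensorProduct.tmul_mul_tmul, one_mul, mul_comm, hx,
        ← TensorProduct.smul_tmul, Algebra.algebraMap_eq_smul_one]
    | add x y hx hy =>
      obtain ⟨M, d, hd⟩ := hx
      obtain ⟨M', d', hd'⟩ := hy
      refine ⟨M + M', (f₀ ^ M') • d + (f₀ ^ M) • d', ?_⟩
      have e1 : ∀ (k : ℕ) (d : A'), (1 : R₁) ⊗ₜ[R] ((f₀ ^ k) • d) = (algebraMap R R₁ f₀ ⊗ₜ[R] 1) ^ k * ((1 : R₁) ⊗ₜ[R] d) := by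
        intro k d
        rw [Algebra.TensorProduct.tmul_pow, one_pow, Algebra.TensorProduct.tmul_mul_tmul, one_mul, mul_one,
          ← map_pow, ← TensorProduct.smul_tmul, Algebra.algebraMap_eq_smul_one]
      rw [TensorProduct.tmul_add, e1, e1, hd, hd']
      ring
  induction z using TensorProduct.induction_on with
  | zero => exact ⟨0, 0, by rw [map_zero, mul_zero]⟩
  | tmul a b =>
    obtain ⟨M, d, hd⟩ := key a
    refine ⟨M, d ⊗ₜ b, ?_⟩
    rw [Algebra.TensorProduct.map_tmul, Algebra.TensorProduct.tmul_pow, one_pow, Algebra.TensorProduct.tmul_mul_tmul,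
      one_mul, ← hd]
    rfl
  | add x y hx hy =>
    obtain ⟨M, D, hD⟩ := hx
    obtain ⟨M', D', hD'⟩ := hy
    refine ⟨M + M', ((algebraMap R A' f₀) ⊗ₜ[A] 1) ^ M' * D + ((algebraMap R A' f₀) ⊗ₜ[A] 1) ^ M * D', ?_⟩
    have e1 : mB B ((Algebra.TensorProduct.includeRight : A' →ₐ[R] R₁ ⊗[R] A').restrictScalars A)
        ((algebraMap R A' f₀) ⊗ₜ[A] 1) = F₁ := by
      rw [Algebra.TensorProduct.map_tmul]
      change ((1 : R₁) ⊗ₜ[R] (algebraMap R A' f₀)) ⊗ₜ[A] (1 : B) = (algebraMap R R₁ f₀ ⊗ₜ[R] 1) ⊗ₜ[A] 1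
      rw [Algebra.algebraMap_eq_smul_one, ← TensorProduct.smul_tmul, Algebra.algebraMap_eq_smul_one]
    rw [map_add, map_mul, map_mul, map_pow, map_pow, e1, hD, hD']
    change F₁ ^ M' * (F₁ ^ M * x) + F₁ ^ M * (F₁ ^ M' * y) = F₁ ^ (M + M') * (x + y)
    ring

end flat

section fam

/-- Natural multiplicative families of points of `N`, relative to `R`. -/
structure RFam {A : Type u} [CommRing A] (N : Over (Spec (CommRingCat.of A))) [GrpObj N] (R A' : Type u)
    [CommRing R] [Algebra A R] [CommRing A'] [Algebra R A'] where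
  /-- the value of the family -/
  c : ∀ (T : Type u) [CommRing T] [Algebra A T] [Algebra R T] [IsScalarTower A R T], (A' →ₐ[R] T) → (A' →ₐ[R] T) →
    (sp (algebraMap A T) ⟶ N)
  nat : ∀ (T T' : Type u) [CommRing T] [Algebra A T] [Algebra R T] [IsScalarTower A R T] [CommRing T'] [Algebra A T']
    [Algebra R T'] [IsScalarTower A R T'] (θ : T →ₐ[R] T') (φ ψ : A' →ₐ[R] T),
    ap (θ.restrictScalars A) ≫ c T φ ψ = c T' (θ.comp φ) (θ.comp ψ)
  mul : ∀ (T : Type u) [CommRing T] [Algebra A T] [Algebra R T] [IsScalarTower A R T] (φ ψ χ : A' →ₐ[R] T),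
    c T ψ χ * c T φ ψ = c T φ χ

variable {A : Type u} [CommRing A] {N : Over (Spec (CommRingCat.of A))} [GrpObj N] {R A' : Type u}
    [CommRing R] [Algebra A R] [CommRing A'] [Algebra R A'] (c : RFam N R A') (R₁ : Type u) [CommRing R₁]
    [Algebra R R₁] [Algebra A R₁] [IsScalarTower A R R₁]

/-- the family over `R₁` -/
noncomputable def RFam.toFam : Fam (Red.bc (tb A R₁) N) (R₁ ⊗[R] A') where
  c T _ _ φ ψ :=
    letI : Algebra A T := ((algebraMap R₁ T).comp (algebraMap A R₁)).toAlgebra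
    letI : Algebra R T := ((algebraMap R₁ T).comp (algebraMap R R₁)).toAlgebra
    haveI : IsScalarTower A R₁ T := IsScalarTower.of_algebraMap_eq (fun _ => rfl)
    haveI : IsScalarTower R R₁ T := IsScalarTower.of_algebraMap_eq (fun _ => rfl)
    haveI : IsScalarTower A R T := IsScalarTower.to₁₂₄ A R R₁ T
    bp (R := R₁) (c.c T ((φ.restrictScalars R).comp Algebra.TensorProduct.includeRight)
      ((ψ.restrictScalars R).comp Algebra.TensorProduct.includeRight))
  nat T T' _ _ _ _ θ φ ψ := by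
    let _ : Algebra A T := ((algebraMap R₁ T).comp (algebraMap A R₁)).toAlgebra
    let _ : Algebra R T := ((algebraMap R₁ T).comp (algebraMap R R₁)).toAlgebra
    have : IsScalarTower A R₁ T := IsScalarTower.of_algebraMap_eq (fun _ => rfl)
    have : IsScalarTower R R₁ T := IsScalarTower.of_algebraMap_eq (fun _ => rfl)
    have : IsScalarTower A R T := IsScalarTower.to₁₂₄ A R R₁ T
    let _ : Algebra A T' := ((algebraMap R₁ T').comp (algebraMap A R₁)).toAlgebra
    let _ : Algebra R T' := ((algebraMap R₁ T').comp (algebraMap R R₁)).toAlgebra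
    have : IsScalarTower A R₁ T' := IsScalarTower.of_algebraMap_eq (fun _ => rfl)
    have : IsScalarTower R R₁ T' := IsScalarTower.of_algebraMap_eq (fun _ => rfl)
    have : IsScalarTower A R T' := IsScalarTower.to₁₂₄ A R R₁ T'
    rw [ap_bp]
    congr 1
    exact c.nat T T' (θ.restrictScalars R) _ _
  mul T _ _ φ ψ χ := by
    let _ : Algebra A T := ((algebraMap R₁ T).comp (algebraMap A R₁)).toAlgebra
    let _ : Algebra R T := ((algebraMap R₁ T).comp (algebraMap R R₁)).toAlgebra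
    have : IsScalarTower A R₁ T := IsScalarTower.of_algebraMap_eq (fun _ => rfl)
    have : IsScalarTower R R₁ T := IsScalarTower.of_algebraMap_eq (fun _ => rfl)
    have : IsScalarTower A R T := IsScalarTower.to₁₂₄ A R R₁ T
    rw [← bp_mul]
    congr 1
    exact c.mul T _ _ _

/-- the value for any compatible algebra structures -/
lemma RFam.toFam_c {T : Type u} [CommRing T] [hA : Algebra A T] [hR : Algebra R T] [Algebra R₁ T]
    [h1 : IsScalarTower A R₁ T] [h2 : IsScalarTower R R₁ T] [h3 : IsScalarTower A R T] (φ ψ : R₁ ⊗[R] A' →ₐ[R₁] T) :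
    (c.toFam R₁).c T φ ψ = bp (R := R₁) (c.c T ((φ.restrictScalars R).comp Algebra.TensorProduct.includeRight)
      ((ψ.restrictScalars R).comp Algebra.TensorProduct.includeRight)) := by
  have e1 : hA = ((algebraMap R₁ T).comp (algebraMap A R₁)).toAlgebra := Algebra.algebra_ext _ _ fun r => by
    rw [← IsScalarTower.algebraMap_eq A R₁ T]
    rfl
  have e2 : hR = ((algebraMap R₁ T).comp (algebraMap R R₁)).toAlgebra := Algebra.algebra_ext _ _ fun r => by
    rw [← IsScalarTower.algebraMap_eq R R₁ T]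
    rfl
  subst e1
  subst e2
  rfl

end fam

section loc

lemma sub_desc {R R' : Type*} [CommRing R] [CommRing R'] (f g : R →+* R') (Y N : Additive Rˣ)
    (u v : Additive R'ˣ) (hu : vl u = f (vl N)) (hv : vl v = g (vl N)) (h : vl (v - u) * f (vl Y) = g (vl Y)) :
    f (vl (Y - N)) = g (vl (Y - N)) := by
  have hu' : u = um f N := addUnits_ext hu
  have hv' : v = um g N := addUnits_ext hv
  subst hu' hv'
  have h5 : (um g N - um f N) + um f Y = um g Y := addUnits_ext h
  have h7 : um f (Y - N) = um g (Y - N) := by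
    rw [map_sub, map_sub, ← h5]
    abel
  exact congrArg vl h7

variable {A B : Type u} [CommRing A] [CommRing B] [Algebra A B] {G : Type} [Group G]
    [MulSemiringAction G B] [SMulCommClass G A B]
    {N : Over (Spec (CommRingCat.of A))} [GrpObj N] {Λ : Type} [AddCommGroup Λ] [DistribMulAction G Λ]
    (D : K965.Dict A B G N Λ) {R A' : Type u} [CommRing R] [Algebra A R] [CommRing A'] [Algebra R A'] [Algebra A A']
    [IsScalarTower A R A'] (c : RFam N R A') (K : Type u) [Field K] [Algebra R K] [Algebra A K] [IsScalarTower A R K]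

/-- local generators -/
theorem exists_local [Module.Flat A B] [Module.FaithfullyFlat K (K ⊗[R] A')] (R₁ : Type u) [CommRing R₁]
    [Algebra R R₁] [Algebra A R₁] [IsScalarTower A R R₁] [Algebra R₁ K] [IsScalarTower R R₁ K] [IsScalarTower A R₁ K]
    (f₀ : R) [IsLocalization.Away f₀ R₁] (hff : Module.FaithfullyFlat R₁ (R₁ ⊗[R] A'))
    (hPic : Subsingleton (CommRing.Pic (R₁ ⊗[A] B)))
    (hκ : Function.Injective (mB B ((Algebra.TensorProduct.includeRight : A' →ₐ[R] K ⊗[R] A').restrictScalars A)))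
    (hf : algebraMap R K f₀ ≠ 0) (n : sp (algebraMap A (K ⊗[R] A')) ⟶ N)
    (hn : c.c ((K ⊗[R] A') ⊗[K] (K ⊗[R] A')) ((t1 R K (K ⊗[R] A')).comp Algebra.TensorProduct.includeRight)
      ((t2 R K (K ⊗[R] A')).comp Algebra.TensorProduct.includeRight) =
        (ap (t2 A K (K ⊗[R] A')) ≫ n) / (ap (t1 A K (K ⊗[R] A')) ≫ n)) (l : Λ) :
    ∃ (z : Additive (K ⊗[A] B)ˣ) (d e : A' ⊗[A] B) (M : ℕ),
      mB B ((Algebra.TensorProduct.includeRight : A' →ₐ[R] K ⊗[R] A').restrictScalars A) d =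
        vl (D.ch (K ⊗[R] A') n l) * mB B (IsScalarTower.toAlgHom A K (K ⊗[R] A')) (vl z) ∧
      d * e = mB B (IsScalarTower.toAlgHom A R A') (f₀ ⊗ₜ 1) ^ M := by
  let K' := K ⊗[R] A'
  let T := K' ⊗[K] K'
  let A₁ := R₁ ⊗[R] A'
  let i' : A₁ →ₐ[R₁] K' := Algebra.TensorProduct.map (Algebra.ofId R₁ K) (AlgHom.id R A')
  obtain ⟨d₀, hd₀⟩ := exists_mem (K964.DictBc.bc D R₁) (c.toFam R₁) hPic l
  let δ : Additive (A₁ ⊗[A] B)ˣ := (ku A B R₁ A₁).symm d₀
  have hδ : kap A B R₁ A₁ (vl δ) = vl d₀ := (kap A B R₁ A₁).apply_symm_apply _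
  have h1 := hd₀ T ((t1 R₁ K K').comp i') ((t2 R₁ K K').comp i')
  rw [c.toFam_c, bc_ch_bp, vl_ku, ← hδ, mB_kap, mB_kap, ← map_mul] at h1
  have h2 := (kap A B R₁ T).injective h1
  have hi' : ∀ a : A', i' ((1 : R₁) ⊗ₜ[R] a) = (1 : K) ⊗ₜ[R] a := by
    intro a
    rw [Algebra.TensorProduct.map_tmul, map_one]
    rfl
  have e1 : (((t1 R₁ K K').comp i').restrictScalars R).comp (Algebra.TensorProduct.includeRight : A' →ₐ[R] A₁) =
      (t1 R K K').comp Algebra.TensorProduct.includeRight :=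
    AlgHom.ext fun a => congrArg (fun z : K' => z ⊗ₜ[K] (1 : K')) (hi' a)
  have e2 : (((t2 R₁ K K').comp i').restrictScalars R).comp (Algebra.TensorProduct.includeRight : A' →ₐ[R] A₁) =
      (t2 R K K').comp Algebra.TensorProduct.includeRight :=
    AlgHom.ext fun a => congrArg (fun z : K' => (1 : K') ⊗ₜ[K] z) (hi' a)
  rw [e1, e2, hn, ch_div] at h2
  -- descent to `K`
  let Y : Additive (K' ⊗[A] B)ˣ := um (mB B (i'.restrictScalars A) : A₁ ⊗[A] B →+* K' ⊗[A] B) δ
  have hY : vl Y = mB B (i'.restrictScalars A) (vl δ) := rfl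
  have h3 : vl (D.ch T (ap (t2 A K K') ≫ n) l - D.ch T (ap (t1 A K K') ≫ n) l) * mB B (t1 A K K') (vl Y) =
      mB B (t2 A K K') (vl Y) := by
    rw [hY, mB_comp, mB_comp]
    exact h2
  obtain ⟨w, hw⟩ := exists_unit_of_eq_tower (A := A) (B := B) (R := K) (R' := K') (Y - D.ch K' n l) (by
    exact sub_desc (mB B (t1 A K K')).toRingHom (mB B (t2 A K K')).toRingHom Y (D.ch K' n l) _ _
      (ch_nat' D (t1 A K K') n l) (ch_nat' D (t2 A K K') n l) h3)
  have hw' : vl Y = vl (D.ch K' n l) * mB B (IsScalarTower.toAlgHom A K K') (vl w) := by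
    have h4 : Y = D.ch K' n l + um (mB B (IsScalarTower.toAlgHom A K K') : K ⊗[A] B →+* K' ⊗[A] B) w := by
      rw [hw]; abel
    rw [h4, vl_add]
    rfl
  -- denominators
  obtain ⟨M, d, hd⟩ := exists_denom f₀ R₁ (vl δ)
  obtain ⟨M', e, he⟩ := exists_denom f₀ R₁ (vl (-δ))
  let Fk : Additive (K ⊗[A] B)ˣ := um (Algebra.TensorProduct.includeLeft : K →ₐ[A] K ⊗[A] B)
    (Additive.ofMul (Units.mk0 (algebraMap R K f₀) hf))
  have hFk : vl Fk = algebraMap R K f₀ ⊗ₜ[A] 1 := rfl
  have hF1 : mB B (i'.restrictScalars A) ((algebraMap R R₁ f₀ ⊗ₜ[R] 1) ⊗ₜ[A] 1) =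
      mB B (IsScalarTower.toAlgHom A K K') (vl Fk) := by
    rw [hFk, Algebra.TensorProduct.map_tmul, Algebra.TensorProduct.map_tmul]
    congr 1
    change i' (algebraMap R R₁ f₀ ⊗ₜ[R] 1) = algebraMap R K f₀ ⊗ₜ[R] 1
    rw [Algebra.TensorProduct.map_tmul, map_one]
    congr 1
    exact (IsScalarTower.algebraMap_apply R R₁ K f₀).symm
  have hincl : ∀ x : A' ⊗[A] B, mB B ((Algebra.TensorProduct.includeRight : A' →ₐ[R] K').restrictScalars A) x =
      mB B (i'.restrictScalars A)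
        (mB B ((Algebra.TensorProduct.includeRight : A' →ₐ[R] A₁).restrictScalars A) x) := by
    intro x
    rw [mB_comp]
    congr 2
    exact AlgHom.ext fun a => (hi' a).symm
  have hD : mB B ((Algebra.TensorProduct.includeRight : A' →ₐ[R] K').restrictScalars A) d =
      mB B (IsScalarTower.toAlgHom A K K') (vl Fk) ^ M * vl Y := by
    rw [hincl, hd, map_mul, map_pow, hF1, hY]
  have hE : mB B ((Algebra.TensorProduct.includeRight : A' →ₐ[R] K').restrictScalars A) e =
      mB B (IsScalarTower.toAlgHom A K K') (vl Fk) ^ M' * vl (-Y) := by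
    rw [hincl, he, map_mul, map_pow, hF1]
    congr 1
  refine ⟨w + M • Fk, d, e, M + M', ?_, hκ ?_⟩
  · rw [hD, hw', vl_add, vl_nsmul, map_mul, map_pow]
    ring
  · have h4 : vl Y * vl (-Y) = 1 := by rw [← vl_add, add_neg_cancel, vl_zero]
    have h5 : mB B ((Algebra.TensorProduct.includeRight : A' →ₐ[R] K').restrictScalars A)
        (mB B (IsScalarTower.toAlgHom A R A') (f₀ ⊗ₜ 1)) = mB B (IsScalarTower.toAlgHom A K K') (vl Fk) := by
      rw [hFk, mB_comp, Algebra.TensorProduct.map_tmul, Algebra.TensorProduct.map_tmul]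
      congr 1
      change (1 : K) ⊗ₜ[R] (algebraMap R A' f₀) = algebraMap R K f₀ ⊗ₜ[R] 1
      rw [Algebra.algebraMap_eq_smul_one, ← TensorProduct.smul_tmul, Algebra.algebraMap_eq_smul_one]
    rw [map_mul, hD, hE, map_pow, h5, pow_add]
    linear_combination (mB B (IsScalarTower.toAlgHom A K K') (vl Fk) ^ M *
      mB B (IsScalarTower.toAlgHom A K K') (vl Fk) ^ M') * h4

end loc

section main

variable {A B : Type u} [CommRing A] [CommRing B] [Algebra A B] {R : Type u} [CommRing R] [Algebra A R]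

/-- the Picard group of a localization of a factorial `R ⊗ B` -/
theorem pic_local (f₀ : R) (hf : algebraMap R (R ⊗[A] B) f₀ ≠ 0) [IsDomain (R ⊗[A] B)]
    [UniqueFactorizationMonoid (R ⊗[A] B)] : Subsingleton (CommRing.Pic (Localization.Away f₀ ⊗[A] B)) := by
  let R₁ := Localization.Away f₀
  let S := R ⊗[A] B
  have hle : Algebra.algebraMapSubmonoid S (Submonoid.powers f₀) ≤ nonZeroDivisors S := by
    rintro _ ⟨_, ⟨k, rfl⟩, rfl⟩
    rw [map_pow]
    exact pow_mem (mem_nonZeroDivisors_of_ne_zero hf) k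
  have h0 : IsLocalization (Algebra.algebraMapSubmonoid S (Submonoid.powers f₀)) (S ⊗[R] R₁) :=
    IsLocalization.tensor R₁ (Submonoid.powers f₀)
  have h1 : IsDomain (S ⊗[R] R₁) := IsLocalization.isDomain_of_le_nonZeroDivisors (S ⊗[R] R₁) hle
  have h2 : UniqueFactorizationMonoid (S ⊗[R] R₁) :=
    UniqueFactorizationMonoid.of_isLocalization (Algebra.algebraMapSubmonoid S (Submonoid.powers f₀)) _
  let e : S ⊗[R] R₁ ≃+* R₁ ⊗[A] B :=
    (Algebra.TensorProduct.comm R S R₁).toRingEquiv.trans (kap A B R R₁).symm.toRingEquiv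
  have h3 : IsDomain (R₁ ⊗[A] B) := MulEquiv.isDomain _ e.symm.toMulEquiv
  have h4 : UniqueFactorizationMonoid (R₁ ⊗[A] B) := MulEquiv.uniqueFactorizationMonoid e.toMulEquiv h2
  change Subsingleton (CommRing.Pic (R₁ ⊗[A] B))
  infer_instance

end main

end K832.RelFam
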