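import Groth.Agent.MultTori.K964.DivSec
import Mathlib.RingTheory.Flat.EquationalCriterion

/-!
# Gluing characters over an open subscheme of the spectrum of a factorial ring

`S` factorial with an action of `G`, `L` its fraction ring, `C` a flat `S`-algebra, `C → C'` injective, `L → C'`.
A character `n : Λ → C'ˣ` which, locally on a covering `D (f i)` of `Spec C`, differs from a character of `C` by
elements of `Lˣ` can be modified by an equivariant character `Λ → Lˣ` to take values in `Cˣ` (`exists_glue`).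
-/

set_option autoImplicit false
universe u v w

open scoped Pointwise

namespace K832.UfdGlue

open K964.CharExt K964.DivSec

/-- An equivariant decomposition of the units of the fraction ring. -/
structure FS (S : Type u) [CommRing S] {L : Type u} [CommRing L] (j : S →+* L) (G : Type v) [Group G]
    [MulSemiringAction G S] (σ : G → L →+* L) where
  /-- the generators -/
  γ : Pr S → S
  hγ : ∀ q, q.1 = Ideal.span {γ q}
  /-- the decomposition -/
  e : Additive Sˣ × (Pr S →₀ ℤ) ≃+ Additive Lˣ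
  e_fst : ∀ u, vl (e (u, 0)) = j (vl u)
  e_single : ∀ q, vl (e (0, Finsupp.single q 1)) = j (γ q)
  e_act : ∀ (g : G) (u : Additive Sˣ) (m : Pr S →₀ ℤ),
    um (σ g) (e (u, m)) = e (ug g u, Finsupp.mapDomain (g • ·) m)

/-- existence of decompositions -/
theorem exists_fs {S : Type u} [CommRing S] [IsDomain S] [UniqueFactorizationMonoid S] {L : Type u} [CommRing L]
    (j : S →+* L) {G : Type v} [Group G] [MulSemiringAction G S] (σ : G → L →+* L) (h90 : H90P S G)
    (hj : Function.Injective j) (hfrac : ∀ z : Lˣ, ∃ b b' : S, b ≠ 0 ∧ b' ≠ 0 ∧ (z : L) * j b' = j b)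
    (hu : ∀ b, b ≠ 0 → IsUnit (j b)) (hσ : ∀ g b, σ g (j b) = j (g • b)) : Nonempty (FS S j G σ) := by
  obtain ⟨γ, hγ, hγG⟩ := exists_gen h90
  refine ⟨⟨γ, hγ, AddEquiv.ofBijective (Phi j hu γ hγ) ⟨Phi_injective j hu γ hγ hj, Phi_surjective j hu γ hγ hfrac⟩,
    fun u => ?_, fun q => ?_, fun g u m => ?_⟩⟩
  · change vl (Phi j hu γ hγ (u, 0)) = _
    rw [Phi_fst, vl_um]
  · change vl (Phi j hu γ hγ (0, Finsupp.single q 1)) = _
    rw [Phi_single, one_smul, vl_ul]
  · exact Phi_equivariant j hu γ hγ σ hσ hγG g u m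

/-- a prime not dividing `a` and dividing it in a flat algebra becomes a unit -/
theorem isUnit_of_flat {S C : Type u} [CommRing S] [CommRing C] [Algebra S C] [Module.Flat S C] {p a : S}
    (hp : Prime p) (ha : ¬ p ∣ a) {c : C} (h : algebraMap S C a = algebraMap S C p * c) : IsUnit (algebraMap S C p) := by
  have h1 : ∑ i : Fin 2, (![a, -p] i) • (![(1 : C), c] i) = 0 := by
    rw [Fin.sum_univ_two]
    simp only [Matrix.cons_val_zero, Matrix.cons_val_one]
    rw [Algebra.smul_def, Algebra.smul_def, map_neg, h]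
    ring
  obtain ⟨k, A, y, hy, hA⟩ := Module.Flat.isTrivialRelation_of_sum_smul_eq_zero h1
  have h2 : ∀ i, p ∣ A 0 i := by
    intro i
    have h3 := hA i
    rw [Fin.sum_univ_two] at h3
    simp only [Matrix.cons_val_zero, Matrix.cons_val_one] at h3
    have h4 : p ∣ a * A 0 i := ⟨A 1 i, by linear_combination h3⟩
    exact (hp.dvd_or_dvd h4).resolve_left ha
  choose B hB using h2
  have h5 := hy 0
  simp only [Matrix.cons_val_zero] at h5
  refine IsUnit.of_mul_eq_one (∑ i, B i • y i) ?_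
  rw [h5, Finset.mul_sum]
  refine Finset.sum_congr rfl fun i _ => ?_
  rw [hB, Algebra.smul_def, Algebra.smul_def, map_mul, mul_assoc]

section main

variable {S : Type u} [CommRing S] [IsDomain S] {L : Type u} [CommRing L] {j : S →+* L} {G : Type v} [Group G]
  [MulSemiringAction G S] {σ : G → L →+* L} (F : FS S j G σ)

/-- the valuation of a prime -/
noncomputable def vq (q : Pr S) : Additive Lˣ →+ ℤ :=
  (Finsupp.applyAddHom q).comp ((AddMonoidHom.snd _ _).comp F.e.symm.toAddMonoidHom)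

lemma vq_e (q : Pr S) (u : Additive Sˣ) (m : Pr S →₀ ℤ) : vq F q (F.e (u, m)) = m q := by
  change (F.e.symm (F.e (u, m))).2 q = m q
  rw [AddEquiv.symm_apply_apply]

lemma vq_act (q : Pr S) (g : G) (z : Additive Lˣ) : vq F (g • q) (um (σ g) z) = vq F q z := by
  obtain ⟨⟨u, m⟩, rfl⟩ := F.e.surjective z
  rw [F.e_act, vq_e, vq_e, Finsupp.mapDomain_apply (MulAction.injective g)]

omit [IsDomain S] in
lemma prime_γ (q : Pr S) : Prime (F.γ q) := q.prime_gen (F.hγ q)

omit [IsDomain S] in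
lemma e_single_add (u : Additive Sˣ) (q' : Pr S) (k : ℤ) (m : Pr S →₀ ℤ) :
    F.e (u, Finsupp.single q' k + m) = k • F.e (0, Finsupp.single q' 1) + F.e (u, m) := by
  rw [← map_zsmul, ← map_add, Prod.smul_mk, smul_zero, Finsupp.smul_single, smul_eq_mul, mul_one, Prod.mk_add_mk,
    zero_add]

lemma zpow_rel {R : Type*} [CommRing R] (x : Additive Rˣ) (k : ℤ) :
    vl (k • x) * vl x ^ (-k).toNat = vl x ^ k.toNat := by
  rw [← vl_nsmul, ← vl_nsmul, ← vl_add]
  congr 2
  rcases Int.le_total 0 k with h | h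
  · lift k to ℕ using h
    simp
  · obtain ⟨n, rfl⟩ : ∃ n : ℕ, k = -n := ⟨k.natAbs, by omega⟩
    simp

/-- fractions with a prescribed prime `q` of nonpositive order -/
theorem exists_frac (q : Pr S) (z : Additive Lˣ) : ∃ a b : S, ¬ F.γ q ∣ a ∧ ¬ F.γ q ∣ b ∧
    vl z * j (F.γ q) ^ (-(vq F q z)).toNat * j b = j a * j (F.γ q) ^ (vq F q z).toNat := by
  classical
  have hq := prime_γ F q
  obtain ⟨⟨u, m⟩, rfl⟩ := F.e.surjective z
  rw [vq_e]
  induction m using Finsupp.induction with
  | zero =>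
    refine ⟨vl u, 1, fun h => hq.not_isUnit (isUnit_of_dvd_unit h (Units.isUnit _)),
      fun h => hq.not_isUnit (isUnit_of_dvd_one h), ?_⟩
    rw [F.e_fst]
    simp
  | single_add q' k m hq' hk ih =>
    have hadd := e_single_add F u q' k m
    obtain ⟨a, b, ha, hb, hab⟩ := ih
    have hg : vl (k • F.e (0, Finsupp.single q' 1)) * j (F.γ q') ^ (-k).toNat = j (F.γ q') ^ k.toNat := by
      rw [← F.e_single, zpow_rel]
    rw [hadd, vl_add, Finsupp.add_apply]
    by_cases h : q' = q
    · subst h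
      have hm : m q' = 0 := by simpa using hq'
      rw [hm] at hab ⊢
      rw [Finsupp.single_eq_same, add_zero]
      refine ⟨a, b, ha, hb, ?_⟩
      simp only [neg_zero, Int.toNat_zero, pow_zero, mul_one] at hab
      linear_combination (j b * vl (F.e (u, m))) * hg + (j (F.γ q') ^ k.toNat) * hab
    · rw [Finsupp.single_eq_of_ne (Ne.symm h), zero_add]
      have hnd : ∀ n : ℕ, ¬ F.γ q ∣ F.γ q' ^ n := by
        intro n hn
        have h3 := hq.dvd_of_dvd_pow hn
        apply h
        have h4 : Associated (F.γ q') (F.γ q) := ((prime_γ F q').associated_of_dvd hq (by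
          exact (hq.associated_of_dvd (prime_γ F q') h3).symm.dvd))
        exact Subtype.ext (by rw [F.hγ, F.hγ, Ideal.span_singleton_eq_span_singleton]; exact h4)
      refine ⟨a * F.γ q' ^ k.toNat, b * F.γ q' ^ (-k).toNat, fun h3 => ?_, fun h3 => ?_, ?_⟩
      · exact (hq.dvd_or_dvd h3).elim ha (hnd _)
      · exact (hq.dvd_or_dvd h3).elim hb (hnd _)
      · simp only [map_mul, map_pow]
        linear_combination (j (F.γ q) ^ (-(m q)).toNat * j b * vl (F.e (u, m))) * hg +
          (j (F.γ q') ^ k.toNat) * hab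

/-- elements not divisible by the prime have valuation zero -/
lemma vq_eq_zero (hj : Function.Injective j) (q : Pr S) {b : S} (hb : ¬ F.γ q ∣ b) {z : Additive Lˣ}
    (hz : vl z = j b) : vq F q z = 0 := by
  have hq := prime_γ F q
  obtain ⟨a, c, ha, hc, h⟩ := exists_frac F q z
  rw [hz, ← map_pow, ← map_pow, ← map_mul, ← map_mul, ← map_mul] at h
  have h1 := hj h
  by_contra hne
  rcases lt_or_gt_of_ne hne with hlt | hgt
  · have h2 : (vq F q z).toNat = 0 := by omega
    rw [h2, pow_zero, mul_one] at h1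
    obtain ⟨k, hk⟩ : ∃ k, (-(vq F q z)).toNat = k + 1 := ⟨(-(vq F q z)).toNat - 1, by omega⟩
    rw [hk, pow_succ] at h1
    exact ha ⟨b * F.γ q ^ k * c, by rw [← h1]; ring⟩
  · have h2 : (-(vq F q z)).toNat = 0 := by omega
    rw [h2, pow_zero, mul_one] at h1
    obtain ⟨k, hk⟩ : ∃ k, (vq F q z).toNat = k + 1 := ⟨(vq F q z).toNat - 1, by omega⟩
    rw [hk, pow_succ] at h1
    exact (hq.dvd_or_dvd (show F.γ q ∣ b * c from ⟨a * F.γ q ^ k, by rw [h1]; ring⟩)).elim hb hc

/-- elements whose valuations are supported in the primes dividing `f` have denominators powers of `f` -/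
theorem exists_pow (f : S) (z : Additive Lˣ) (hz : ∀ q, ¬ F.γ q ∣ f → vq F q z = 0) :
    ∃ (N : ℕ) (a : S), vl z * j f ^ N = j a := by
  classical
  obtain ⟨⟨u, m⟩, rfl⟩ := F.e.surjective z
  simp only [vq_e] at hz
  induction m using Finsupp.induction with
  | zero => exact ⟨0, vl u, by rw [F.e_fst, pow_zero, mul_one]⟩
  | single_add q' k m hq' hk ih =>
    have hm0 : m q' = 0 := by simpa using hq'
    have hadd := e_single_add F u q' k m
    obtain ⟨N, a, ha⟩ := ih (by
      intro q hq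
      have h1 := hz q hq
      rw [Finsupp.add_apply] at h1
      by_cases h : q' = q
      · rw [← h, hm0]
      · rwa [Finsupp.single_eq_of_ne (Ne.symm h), zero_add] at h1)
    have hdvd : F.γ q' ∣ f := by
      by_contra hnd
      have h1 := hz q' hnd
      rw [Finsupp.add_apply, Finsupp.single_eq_same, hm0, add_zero] at h1
      exact hk h1
    obtain ⟨c, hc⟩ := hdvd
    have hg : vl (k • F.e (0, Finsupp.single q' 1)) * j (F.γ q') ^ (-k).toNat = j (F.γ q') ^ k.toNat := by
      rw [← F.e_single, zpow_rel]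
    refine ⟨(-k).toNat + N, c ^ (-k).toNat * F.γ q' ^ k.toNat * a, ?_⟩
    rw [hadd, vl_add, pow_add]
    have h3 : j f ^ (-k).toNat = j (F.γ q') ^ (-k).toNat * j c ^ (-k).toNat := by
      rw [← mul_pow, ← map_mul, ← hc]
    rw [h3]
    simp only [map_mul, map_pow]
    linear_combination (j c ^ (-k).toNat * vl (F.e (u, m)) * j f ^ N) * hg +
      (j c ^ (-k).toNat * j (F.γ q') ^ k.toNat) * ha

variable {C C' : Type u} [CommRing C] [CommRing C'] [Algebra S C] [Module.Flat S C] (κ : C →+* C')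
  (hκ : Function.Injective κ) (μ : L →+* C') (hμ : ∀ x, μ (j x) = κ (algebraMap S C x))

include hκ hμ in
/-- elements of `Lˣ` which come from `C` have nonnegative valuation at the primes visible in `C` -/
theorem vq_nonneg (q : Pr S) (hq : ¬ IsUnit (algebraMap S C (F.γ q))) (z : Additive Lˣ) (D : C)
    (hD : κ D = μ (vl z)) : 0 ≤ vq F q z := by
  by_contra hlt
  apply hq
  obtain ⟨a, b, ha, hb, h⟩ := exists_frac F q z
  have h2 : (vq F q z).toNat = 0 := by omega
  obtain ⟨k, hk⟩ : ∃ k, (-(vq F q z)).toNat = k + 1 := ⟨(-(vq F q z)).toNat - 1, by omega⟩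
  rw [h2, pow_zero, mul_one, hk] at h
  refine isUnit_of_flat (prime_γ F q) ha (c := D * algebraMap S C (F.γ q) ^ k * algebraMap S C b) (hκ ?_)
  have h3 := congrArg μ h
  simp only [map_mul, map_pow, hμ] at h3
  rw [← h3, map_mul, map_mul, map_mul, map_pow, hD]
  ring

end main

section glue

variable {S : Type u} [CommRing S] [IsDomain S] {L : Type u} [CommRing L] {j : S →+* L} {G : Type v} [Group G]
  [MulSemiringAction G S] {σ : G → L →+* L} (F : FS S j G σ)
  {C C' : Type u} [CommRing C] [CommRing C'] [Algebra S C] [Module.Flat S C] (κ : C →+* C')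
  (μ : L →+* C') {Λ : Type w} [AddCommGroup Λ] [DistribMulAction G Λ] {ι : Type} [Finite ι]

/-- **Gluing of characters.** -/
theorem exists_glue (hj : Function.Injective j) (hu : ∀ b, b ≠ 0 → IsUnit (j b)) (hκ : Function.Injective κ)
    (hμ : ∀ x, μ (j x) = κ (algebraMap S C x)) (τ : G → C →+* C) (σ' : G → C' →+* C')
    (hτ : ∀ g c, κ (τ g c) = σ' g (κ c)) (hσ' : ∀ g l, σ' g (μ l) = μ (σ g l)) (hσ : ∀ g b, σ g (j b) = j (g • b))
    (n : Λ →+ Additive C'ˣ) (hn : ∀ (g : G) (l : Λ), n (g • l) = um (σ' g) (n l))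
    (f : ι → S) (hf : ∀ (g : G) i, g • f i = f i) (hspan : Ideal.span (Set.range fun i => algebraMap S C (f i)) = ⊤)
    (hvis : ∀ (q : Pr S) i, ¬ F.γ q ∣ f i → ¬ IsUnit (algebraMap S C (F.γ q)))
    (hD : ∀ (l : Λ) i, ∃ (z : Additive Lˣ) (D e : C) (M : ℕ), κ D = vl (n l) * μ (vl z) ∧
      D * e = algebraMap S C (f i) ^ M) :
    ∃ t : Λ →+ Additive Lˣ, (∀ (g : G) (l : Λ), t (g • l) = um (σ g) (t l)) ∧
      ∀ l, ∃ d : Additive Cˣ, κ (vl d) = vl (n l) * μ (vl (t l)) := by
  classical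
  have := Fintype.ofFinite ι
  choose z D e M hD1 hD2 using hD
  have hinv : ∀ {R : Type u} [CommRing R] (u : Additive Rˣ), vl u * vl (-u) = 1 := by
    intro R _ u
    rw [← vl_add, add_neg_cancel, vl_zero]
  -- the inequality
  have hle : ∀ (q : Pr S) (l : Λ) (i : ι) (z z' : Additive Lˣ) (D D' e : C) (M : ℕ), ¬ F.γ q ∣ f i →
      κ D = vl (n l) * μ (vl z) → D * e = algebraMap S C (f i) ^ M → κ D' = vl (n l) * μ (vl z') →
        vq F q z ≤ vq F q z' := by
    intro q l i z z' D D' e M hi h1 h2 h1'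
    have hf0 : f i ≠ 0 := by
      intro h0
      rw [h0] at hi
      exact hi (dvd_zero _)
    let φ : Additive Lˣ := Additive.ofMul (hu _ hf0).unit
    have hφ : vl φ = j (f i) := rfl
    have h3 : κ D * κ e = μ (j (f i)) ^ M := by
      rw [← map_mul, h2, map_pow, hμ]
    have h4 : μ (vl z) * μ (vl (-z)) = 1 := by rw [← map_mul, hinv, map_one]
    have h5 : κ (D' * e) = μ (vl (z' - z + M • φ)) := by
      rw [sub_eq_add_neg, vl_add, vl_add, vl_nsmul, hφ, map_mul, map_mul, map_mul, map_pow, h1']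
      rw [h1] at h3
      linear_combination (μ (vl z') * μ (vl (-z))) * h3 - (vl (n l) * μ (vl z') * κ e) * h4
    have h6 := vq_nonneg F κ hκ μ hμ q (hvis q i hi) _ _ h5
    rw [map_add, map_sub, map_nsmul, vq_eq_zero F hj q hi hφ, smul_zero, add_zero] at h6
    linarith
  have hkey : ∀ (q : Pr S) (l : Λ) (i i' : ι) (z z' : Additive Lˣ) (D D' e e' : C) (M M' : ℕ), ¬ F.γ q ∣ f i →
      ¬ F.γ q ∣ f i' → κ D = vl (n l) * μ (vl z) → D * e = algebraMap S C (f i) ^ M →
        κ D' = vl (n l) * μ (vl z') → D' * e' = algebraMap S C (f i') ^ M' → vq F q z = vq F q z' :=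
    fun q l i i' z z' D D' e e' M M' hi hi' h1 h2 h1' h2' =>
      le_antisymm (hle q l i z z' D D' e M hi h1 h2 h1') (hle q l i' z' z D' D e' M' hi' h1' h2' h1)
  -- the divisors
  let m : Λ → (Pr S →₀ ℤ) := fun l => Finsupp.onFinset (Finset.univ.biUnion fun i => (F.e.symm (z l i)).2.support)
    (fun q => if h : ∃ i, ¬ F.γ q ∣ f i then vq F q (z l h.choose) else 0) (by
      intro q hq
      by_cases h : ∃ i, ¬ F.γ q ∣ f i
      · rw [dif_pos h] at hq
        rw [Finset.mem_biUnion]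
        exact ⟨h.choose, Finset.mem_univ _, Finsupp.mem_support_iff.2 hq⟩
      · rw [dif_neg h] at hq
        exact absurd rfl hq)
  have hm1 : ∀ (l : Λ) (q : Pr S) (i : ι), ¬ F.γ q ∣ f i → ∀ (z' : Additive Lˣ) (D' e' : C) (M' : ℕ),
      κ D' = vl (n l) * μ (vl z') → D' * e' = algebraMap S C (f i) ^ M' → m l q = vq F q z' := by
    intro l q i hi z' D' e' M' h1 h2
    have h : ∃ i, ¬ F.γ q ∣ f i := ⟨i, hi⟩
    change (if h : ∃ i, ¬ F.γ q ∣ f i then vq F q (z l h.choose) else 0) = _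
    rw [dif_pos h]
    exact hkey q l _ i _ _ _ _ _ _ _ _ h.choose_spec hi (hD1 _ _) (hD2 _ _) h1 h2
  have hm0 : ∀ (l : Λ) (q : Pr S), (¬ ∃ i, ¬ F.γ q ∣ f i) → m l q = 0 := by
    intro l q h
    change (if h : ∃ i, ¬ F.γ q ∣ f i then vq F q (z l h.choose) else 0) = _
    rw [dif_neg h]
  have hmadd : ∀ l l', m (l + l') = m l + m l' := by
    intro l l'
    ext q
    rw [Finsupp.add_apply]
    by_cases h : ∃ i, ¬ F.γ q ∣ f i
    · obtain ⟨i, hi⟩ := h
      rw [hm1 l q i hi _ _ _ _ (hD1 l i) (hD2 l i), hm1 l' q i hi _ _ _ _ (hD1 l' i) (hD2 l' i), ← map_add]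
      refine hm1 (l + l') q i hi _ (D l i * D l' i) (e l i * e l' i) (M l i + M l' i) ?_ ?_
      · rw [map_mul, hD1, hD1, map_add, vl_add, vl_add, map_mul]
        ring
      · rw [pow_add, ← hD2, ← hD2]
        ring
    · rw [hm0 _ _ h, hm0 _ _ h, hm0 _ _ h, add_zero]
  have hτf : ∀ g i, τ g (algebraMap S C (f i)) = algebraMap S C (f i) := by
    intro g i
    apply hκ
    rw [hτ, ← hμ, hσ', hσ, hf]
  have hdvd : ∀ (g : G) (q : Pr S) i, F.γ (g • q) ∣ f i ↔ F.γ q ∣ f i := by
    intro g q i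
    rw [← Ideal.mem_span_singleton, ← Ideal.mem_span_singleton, ← F.hγ, ← F.hγ, coe_smul,
      Ideal.mem_pointwise_smul_iff_inv_smul_mem, hf]
  have hmg : ∀ (g : G) (l : Λ), m (g • l) = Finsupp.mapDomain (g • ·) (m l) := by
    intro g l
    ext q
    obtain ⟨q', rfl⟩ : ∃ q', q = g • q' := ⟨g⁻¹ • q, by rw [smul_inv_smul]⟩
    rw [Finsupp.mapDomain_apply (MulAction.injective g)]
    by_cases h : ∃ i, ¬ F.γ q' ∣ f i
    · obtain ⟨i, hi⟩ := h
      rw [hm1 l q' i hi _ _ _ _ (hD1 l i) (hD2 l i), ← vq_act F q' g]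
      refine hm1 (g • l) (g • q') i (fun h => hi ((hdvd g q' i).1 h)) _ (τ g (D l i)) (τ g (e l i)) (M l i) ?_ ?_
      · rw [hτ, hD1, map_mul, hσ', hn]
        rfl
      · rw [← map_mul, hD2, map_pow, hτf]
    · rw [hm0 l q' h, hm0 (g • l) (g • q') (by simpa only [hdvd] using h)]
  let t : Λ →+ Additive Lˣ :=
    { toFun := fun l => F.e (0, m l)
      map_zero' := by
        have h1 := hmadd 0 0
        rw [add_zero, left_eq_add] at h1
        rw [h1]
        exact map_zero F.e
      map_add' := fun l l' => by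
        rw [hmadd, ← map_add, Prod.mk_add_mk, add_zero] }
  have ht : ∀ l, t l = F.e (0, m l) := fun l => rfl
  have hmem : ∀ l, ∃ d : C, κ d = vl (n l) * μ (vl (t l)) := by
    intro l
    let I : Ideal C :=
      { carrier := {c | ∃ d, κ d = vl (n l) * μ (vl (t l)) * κ c}
        add_mem' := by
          rintro a b ⟨d, hd⟩ ⟨d', hd'⟩
          exact ⟨d + d', by rw [map_add, hd, hd', map_add, mul_add]⟩
        zero_mem' := ⟨0, by rw [map_zero, mul_zero]⟩
        smul_mem' := by
          rintro a b ⟨d, hd⟩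
          exact ⟨a * d, by rw [map_mul, hd, smul_eq_mul, map_mul]; ring⟩ }
    have hI : I.radical = ⊤ := by
      rw [← top_le_iff, ← hspan, Ideal.span_le]
      rintro _ ⟨i, rfl⟩
      obtain ⟨N, a, ha⟩ := exists_pow F (f i) (t l - z l i) (by
        intro q hq
        rw [map_sub, ht, vq_e, hm1 l q i hq _ _ _ _ (hD1 l i) (hD2 l i), sub_self])
      refine ⟨N, D l i * algebraMap S C a, ?_⟩
      have h1 : vl (z l i) * vl (t l - z l i) = vl (t l) := by rw [← vl_add, add_sub_cancel]
      have h2 := congrArg μ h1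
      rw [map_mul] at h2
      have h3 := congrArg μ ha
      rw [map_mul, map_pow, hμ, hμ] at h3
      rw [map_mul, hD1, map_pow]
      linear_combination (- vl (n l) * μ (vl (z l i))) * h3 + (vl (n l) * κ (algebraMap S C (f i)) ^ N) * h2
    have h1 : (1 : C) ∈ I := by
      rw [Ideal.radical_eq_top.1 hI]
      trivial
    obtain ⟨d, hd⟩ := h1
    exact ⟨d, by rw [hd, map_one, mul_one]⟩
  refine ⟨t, fun g l => ?_, fun l => ?_⟩
  · rw [ht, ht, F.e_act, hmg, map_zero]
  · obtain ⟨d, hd⟩ := hmem l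
    obtain ⟨d', hd'⟩ := hmem (-l)
    refine ⟨Additive.ofMul (Units.mkOfMulEqOne d d' (hκ ?_)), hd⟩
    rw [map_mul, hd, hd', map_one, map_neg, map_neg]
    have h1 := hinv (n l)
    have h2 : μ (vl (t l)) * μ (vl (-t l)) = 1 := by rw [← map_mul, hinv, map_one]
    linear_combination (μ (vl (t l)) * μ (vl (-t l))) * h1 + h2

end glue

end K832.UfdGlue
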